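import Mathlib.RingTheory.PowerSeries.Substitution
import Mathlib.RingTheory.PowerSeries.Inverse
import Mathlib.RingTheory.PowerSeries.Order
import Mathlib.Algebra.CharP.Lemmas
import Mathlib.FieldTheory.IsAlgClosed.Basic
import Mathlib.Tactic

/-! The automorphism `t ↦ t (1 + t^n)^(-1/n)` of `k[[t]]`. -/

namespace Groth.Agent.H26AS

open PowerSeries

universe u

variable {k : Type u} [Field k]

theorem hasSubst_sig (u : k⟦X⟧) : HasSubst (X * u : k⟦X⟧) :=
  HasSubst.of_constantCoeff_zero' (by simp)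

/-- The substitution `t ↦ t u`. -/
noncomputable def sig (u : k⟦X⟧) : k⟦X⟧ →ₐ[k] k⟦X⟧ := substAlgHom (hasSubst_sig u)

theorem sig_apply (u h : k⟦X⟧) : sig u h = subst (X * u : k⟦X⟧) h := by
  rw [sig, coe_substAlgHom]

theorem sig_X (u : k⟦X⟧) : sig u X = X * u := by
  rw [sig, substAlgHom_X]

theorem X_pow_dvd_mul_sub {u : k⟦X⟧} {n : ℕ} (hu : X ^ n ∣ u - 1) : ∀ (j : ℕ), j ≤ n → ∀ h : k⟦X⟧,
    X ^ j ∣ sig u h - h := by
  intro j
  induction j with
  | zero => intro _ h; rw [pow_zero]; exact one_dvd _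
  | succ j ih =>
    intro hj h
    have hd : X ∣ h - C (constantCoeff h) := by rw [X_dvd_iff]; simp
    obtain ⟨g, hg⟩ := hd
    have hh : h = C (constantCoeff h) + X * g := by rw [← hg]; ring
    have e : sig u h - h = X * ((u - 1) * sig u g + (sig u g - g)) := by
      rw [hh, map_add, map_mul, sig_X, show sig u (C (constantCoeff h)) = C (constantCoeff h) from (sig u).commutes _]
      ring
    rw [e, pow_succ']
    exact mul_dvd_mul_left _ (dvd_add (dvd_mul_of_dvd_left ((pow_dvd_pow X (Nat.le_of_succ_le hj)).trans hu) _)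
      (ih (Nat.le_of_succ_le hj) g))

/-- The leading behaviour of `u ^ b`. -/
theorem exists_zpow_eq {n : ℕ} (hn : 0 < n) (hnk : (n : k) ≠ 0) {u : k⟦X⟧}
    (hu1 : constantCoeff u = 1) (hun : u ^ n * (1 + X ^ n) = 1) (hu : IsUnit u) (b : ℤ) :
    ∃ r : k⟦X⟧, ((hu.unit ^ b : k⟦X⟧ˣ) : k⟦X⟧) = 1 + X ^ n * r ∧ constantCoeff r = -(b : k) / n := by
  obtain ⟨S, hS, hS0⟩ : ∃ S : k⟦X⟧, u ^ n - 1 = (u - 1) * S ∧ constantCoeff S = n :=
    ⟨∑ i ∈ Finset.range n, u ^ i, by rw [mul_comm, geom_sum_mul], by simp [map_sum, hu1]⟩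
  obtain ⟨S', hS'⟩ := isUnit_iff_constantCoeff.2 (show IsUnit (constantCoeff S) by rw [hS0]; exact hnk.isUnit)
  let r : k⟦X⟧ := -u ^ n * (↑S'⁻¹ : k⟦X⟧)
  have hur : u = 1 + X ^ n * r := by
    have h1 : u ^ n - 1 = -(X ^ n * u ^ n) := by linear_combination hun
    have h2 : u - 1 = (u ^ n - 1) * (↑S'⁻¹ : k⟦X⟧) := by rw [hS, ← hS', mul_assoc, Units.mul_inv, mul_one]
    rw [h1] at h2
    linear_combination h2
  have hr : constantCoeff r = -1 / (n : k) := by
    have h1 : constantCoeff (↑S'⁻¹ : k⟦X⟧) * n = 1 := by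
      rw [← hS0, ← hS', ← map_mul, Units.inv_mul, map_one]
    simp only [r, map_mul, map_neg, map_pow, hu1, one_pow]
    field_simp
    linear_combination -h1
  have hX : constantCoeff (X ^ n : k⟦X⟧) = 0 := by simp [hn.ne']
  induction b using Int.induction_on with
  | zero => exact ⟨0, by simp, by simp⟩
  | succ i ih =>
    obtain ⟨s, hs, hs0⟩ := ih
    refine ⟨s + r + X ^ n * s * r, ?_, ?_⟩
    · rw [zpow_add_one, Units.val_mul, hs, IsUnit.unit_spec, hur]; ring
    · simp only [map_add, map_mul, hX, hs0, hr]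
      push_cast
      field_simp
      ring
  | pred i ih =>
    obtain ⟨s, hs, hs0⟩ := ih
    let ui : k⟦X⟧ := ((hu.unit⁻¹ : k⟦X⟧ˣ) : k⟦X⟧)
    have hui : ui * u = 1 := IsUnit.val_inv_mul hu
    have hui0 : constantCoeff ui = 1 := by
      have := congrArg constantCoeff hui
      rwa [map_mul, hu1, mul_one, map_one] at this
    refine ⟨s - r * ui - X ^ n * s * r * ui, ?_, ?_⟩
    · rw [zpow_sub_one, Units.val_mul, hs]
      show (1 + X ^ n * s) * ui = _
      have h1 : ui = 1 - X ^ n * r * ui := by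
        conv_rhs => rw [← hui, hur]
        ring
      linear_combination (1 + X ^ n * s) * h1
    · simp only [map_sub, map_mul, hX, hs0, hr, hui0]
      push_cast
      field_simp
      ring

/-- The twisted coboundary of `X ^ j * g` in degree `j + n`. -/
theorem coeff_twisted {n : ℕ} (hn : 0 < n) (hnk : (n : k) ≠ 0) {u : k⟦X⟧}
    (hu1 : constantCoeff u = 1) (hun : u ^ n * (1 + X ^ n) = 1) (hu : IsUnit u) (b : ℤ) (j : ℕ) (g : k⟦X⟧) :
    coeff (j + n) (((hu.unit ^ b : k⟦X⟧ˣ) : k⟦X⟧) * sig u (X ^ j * g) - X ^ j * g) =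
      -((b + j : ℤ) : k) / n * constantCoeff g := by
  obtain ⟨r₁, hr₁, -⟩ := exists_zpow_eq hn hnk hu1 hun hu (1 : ℤ)
  rw [zpow_one, IsUnit.unit_spec] at hr₁
  obtain ⟨r, hr, hr0⟩ := exists_zpow_eq hn hnk hu1 hun hu (b + j)
  have e : ((hu.unit ^ b : k⟦X⟧ˣ) : k⟦X⟧) * sig u (X ^ j * g) - X ^ j * g =
      X ^ j * (((hu.unit ^ (b + j) : k⟦X⟧ˣ) : k⟦X⟧) * sig u g - g) := by
    rw [zpow_add, zpow_natCast, Units.val_mul, Units.val_pow_eq_pow_val, IsUnit.unit_spec, map_mul, map_pow, sig_X]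
    ring
  obtain ⟨g', hg'⟩ : X ∣ g - C (constantCoeff g) := by rw [X_dvd_iff]; simp
  have hg : g = C (constantCoeff g) + X * g' := by rw [← hg']; ring
  obtain ⟨q, hq⟩ := X_pow_dvd_mul_sub (u := u) (n := n) ⟨r₁, by rw [hr₁]; ring⟩ n le_rfl g'
  have e2 : sig u g - g = X ^ (n + 1) * (r₁ * sig u g' + q) := by
    rw [hg, map_add, map_mul, sig_X, show sig u (C (constantCoeff g)) = C (constantCoeff g) from (sig u).commutes _]
    linear_combination X * hq + X * sig u g' * hr₁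
  have e3 : ((hu.unit ^ (b + j) : k⟦X⟧ˣ) : k⟦X⟧) * sig u g - g =
      X ^ n * (r * sig u g + X * (r₁ * sig u g' + q)) := by
    rw [hr]; linear_combination e2
  rw [e, e3, show j + n = n + j by omega, coeff_X_pow_mul, show coeff n (X ^ n * (r * sig u g + X * (r₁ * sig u g' + q))) =
    coeff (0 + n) (X ^ n * (r * sig u g + X * (r₁ * sig u g' + q))) by rw [zero_add], coeff_X_pow_mul,
    coeff_zero_eq_constantCoeff]
  have hc : constantCoeff (sig u g) = constantCoeff g := by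
    rw [show sig u g = g + X ^ (n + 1) * (r₁ * sig u g' + q) by linear_combination e2]
    simp
  simp only [map_add, map_mul, constantCoeff_X, zero_mul, add_zero, hr0, hc]

/-- An invariant series starts in a degree `j` with `b + j = 0` in `k`. -/
theorem of_invariant {n : ℕ} (hn : 0 < n) (hnk : (n : k) ≠ 0) {u : k⟦X⟧}
    (hu1 : constantCoeff u = 1) (hun : u ^ n * (1 + X ^ n) = 1) (hu : IsUnit u) (b : ℤ) (h : k⟦X⟧)
    (hfix : ((hu.unit ^ b : k⟦X⟧ˣ) : k⟦X⟧) * sig u h = h) (j : ℕ)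
    (hlow : ∀ i < j, coeff i h = 0) (hj : coeff j h ≠ 0) : ((b + j : ℤ) : k) = 0 := by
  obtain ⟨g, rfl⟩ := (X_pow_dvd_iff).2 hlow
  rw [show coeff j (X ^ j * g) = coeff (0 + j) (X ^ j * g) by rw [zero_add], coeff_X_pow_mul,
    coeff_zero_eq_constantCoeff] at hj
  have h := coeff_twisted hn hnk hu1 hun hu b j g
  rw [hfix, sub_self, map_zero, eq_comm, mul_eq_zero, div_eq_zero_iff, neg_eq_zero] at h
  exact (h.resolve_right hj).resolve_right hnk

theorem root_unique {n : ℕ} (hnk : (n : k) ≠ 0) {a b : k⟦X⟧}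
    (ha : constantCoeff a = 1) (hb : constantCoeff b = 1) (h : a ^ n = b ^ n) : a = b := by
  have h1 : (∑ i ∈ Finset.range n, a ^ i * b ^ (n - 1 - i)) * (a - b) = 0 := by
    rw [geom_sum₂_mul, h, sub_self]
  have hne : (∑ i ∈ Finset.range n, a ^ i * b ^ (n - 1 - i)) ≠ 0 := fun h0 => hnk (by
    have := congrArg constantCoeff h0
    simpa [map_sum, ha, hb] using this)
  exact sub_eq_zero.1 ((mul_eq_zero.1 h1).resolve_left hne)

/-- An invariant uniformizer-power. -/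
theorem exists_invariant [IsAlgClosed k] (p : ℕ) [Fact p.Prime] [CharP k p] {n : ℕ} (hn : 0 < n)
    (hnk : (n : k) ≠ 0) {u : k⟦X⟧} (hu1 : constantCoeff u = 1) (hun : u ^ n * (1 + X ^ n) = 1) :
    ∃ v : k⟦X⟧, constantCoeff v = 1 ∧ u ^ p * sig u v = v ∧ X ^ (n * (p - 1)) ∣ v - 1 := by
  obtain ⟨c, hc⟩ := IsAlgClosed.exists_pow_nat_eq (-1 : k) hn
  have hp := (Fact.out : p.Prime)
  have hp2 := hp.two_le
  let d : k⟦X⟧ := C c * X ^ (p - 1)
  have hd : HasSubst d := HasSubst.of_constantCoeff_zero' (by simp [d, show p - 1 ≠ 0 by omega])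
  let v : k⟦X⟧ := substAlgHom hd u
  have hdn : d ^ n = -X ^ (n * (p - 1)) := by
    simp only [d, mul_pow, ← map_pow, hc, map_neg, map_one, neg_one_mul, ← pow_mul, mul_comm n]
  have hvn : v ^ n * (1 - X ^ (n * (p - 1))) = 1 := by
    have h1 := congrArg (substAlgHom hd) hun
    rw [map_mul, map_add, map_pow, map_pow, map_one, substAlgHom_X, hdn] at h1
    simpa [v, sub_eq_add_neg] using h1
  have hv1 : constantCoeff v = 1 := by
    obtain ⟨g, hg⟩ : X ∣ u - 1 := by rw [X_dvd_iff]; simp [hu1]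
    have : v = 1 + d * substAlgHom hd g := by
      simp only [v]
      rw [show u = 1 + X * g by rw [← hg]; ring, map_add, map_one, map_mul, substAlgHom_X]
    simp [this, d, show p - 1 ≠ 0 by omega]
  refine ⟨v, hv1, ?_, ?_⟩
  · have hs : constantCoeff (sig u v) = 1 := by
      obtain ⟨g, hg⟩ : X ∣ v - 1 := by rw [X_dvd_iff]; simp [hv1]
      rw [show v = 1 + X * g by rw [← hg]; ring, map_add, map_one, map_mul, sig_X]
      simp
    refine root_unique hnk (by simp [hu1, hs]) hv1 ?_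
    have h2 := congrArg (sig u) hvn
    rw [map_mul, map_sub, map_one, map_pow, map_pow, sig_X, mul_pow, pow_mul u] at h2
    rw [pow_mul X] at hvn
    rw [pow_mul X] at h2
    set y : k⟦X⟧ := X ^ n
    set Q := u ^ n
    set W := sig u v ^ n
    haveI : CharP k⟦X⟧ p := charP_of_injective_ringHom (C_injective (R := k)) p
    have hpow : (1 + y) ^ p = 1 + y ^ p := by rw [add_pow_char, one_pow]
    have hy : y ^ p = y * y ^ (p - 1) := by rw [← pow_succ']; congr 1; omega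
    have hq1 : (1 + y) ^ p * Q ^ p = 1 := by rw [← mul_pow, mul_comm (1 + y), hun, one_pow]
    have hq2 : Q ^ p * (1 + y) = Q ^ (p - 1) := by
      rw [show p = p - 1 + 1 by omega, pow_succ, mul_assoc, hun, mul_one, show p - 1 + 1 - 1 = p - 1 by omega]
    rw [mul_pow (u ^ p), ← pow_mul, mul_comm p n, pow_mul]
    show Q ^ p * W = v ^ n
    have hkey : Q ^ p * (1 - y ^ (p - 1)) = 1 - y ^ (p - 1) * Q ^ (p - 1) := by
      rw [← hq2]
      linear_combination -Q ^ p * hy + hq1 - Q ^ p * hpow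
    calc Q ^ p * W = Q ^ p * W * (v ^ n * (1 - y ^ (p - 1))) := by rw [hvn, mul_one]
      _ = v ^ n * (W * (Q ^ p * (1 - y ^ (p - 1)))) := by ring
      _ = v ^ n := by rw [hkey, h2, mul_one]
  · have hS : (∑ i ∈ Finset.range n, v ^ i) * (v - 1) = v ^ n * X ^ (n * (p - 1)) := by
      rw [geom_sum_mul]; linear_combination hvn
    obtain ⟨S', hS'⟩ := isUnit_iff_constantCoeff.2 (show IsUnit (constantCoeff (∑ i ∈ Finset.range n, v ^ i)) by
      simpa [map_sum, hv1] using hnk.isUnit)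
    refine ⟨(↑S'⁻¹ : k⟦X⟧) * v ^ n, ?_⟩
    have h1 := congrArg ((↑S'⁻¹ : k⟦X⟧) * ·) hS
    simp only [← hS', Units.inv_mul_cancel_left] at h1
    rw [h1]; ring

theorem zpow_sub_one_dvd {d : ℕ} (v : k⟦X⟧ˣ) (h : X ^ d ∣ (v : k⟦X⟧) - 1) (q : ℤ) :
    X ^ d ∣ ((v ^ q : k⟦X⟧ˣ) : k⟦X⟧) - 1 := by
  obtain ⟨s, hs⟩ := h
  induction q using Int.induction_on with
  | zero => simp
  | succ i ih =>
    obtain ⟨t, ht⟩ := ih
    refine ⟨t * v + s, ?_⟩
    rw [zpow_add_one, Units.val_mul]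
    linear_combination (v : k⟦X⟧) * ht + hs
  | pred i ih =>
    obtain ⟨t, ht⟩ := ih
    refine ⟨(t - s) * (↑v⁻¹ : k⟦X⟧), ?_⟩
    rw [zpow_sub_one, Units.val_mul]
    linear_combination (↑v⁻¹ : k⟦X⟧) * ht - (↑v⁻¹ : k⟦X⟧) * hs + v.mul_inv

end Groth.Agent.H26AS
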