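import Mathlib.LinearAlgebra.QuadraticForm.Basic
import Mathlib.LinearAlgebra.FiniteDimensional.Basic
import Mathlib.FieldTheory.Minpoly.Field
import Mathlib.LinearAlgebra.Charpoly.Basic
import Mathlib.Algebra.Polynomial.Splits
import Mathlib.LinearAlgebra.Eigenspace.Minpoly
import Mathlib.Algebra.CharP.Lemmas
import Mathlib.Tactic

/-! Isometries of anisotropic quadratic forms. -/

set_option autoImplicit false
universe u v
open Polynomial

namespace Groth.Agent.H26Misc

variable {K : Type u} [Field K] {V : Type v} [AddCommGroup V] [Module K V]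

/-- A unipotent isometry of an anisotropic form is trivial. -/
theorem isometry_unipotent_eq_one (h2 : (2 : K) ≠ 0) (q : QuadraticForm K V) (hq : q.Anisotropic)
    (g : Module.End K V) (hg : ∀ x : V, q (g x) = q x) (m : ℕ) (hm : (g - 1) ^ m = 0) : g = 1 := by
  have key : ∀ v : V, (g - 1) ((g - 1) v) = 0 → (g - 1) v = 0 := by
    intro v hv
    set w := (g - 1) v with hw
    have hgv : g v = v + w := by simp [hw]
    have hgw : g w = w := by simpa [sub_eq_zero] using hv
    refine hq _ ?_
    have e1 : q (v + w) = q v := hgv ▸ hg v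
    have e2 : q (v + w + w) = q (v + w) := by
      have := hg (v + w)
      rwa [map_add, hgv, hgw] at this
    have e3 : q (v + w + w) = q v + q (w + w) + QuadraticMap.polar q v (w + w) := by
      rw [QuadraticMap.polar, add_assoc]; abel
    have e4 : q (v + w) = q v + q w + QuadraticMap.polar q v w := by
      rw [QuadraticMap.polar]; abel
    have e5 : q (w + w) = 4 * q w := by
      rw [← two_smul K w, QuadraticMap.map_smul, smul_eq_mul]; ring
    have e6 : QuadraticMap.polar q v (w + w) = 2 * QuadraticMap.polar q v w := by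
      rw [QuadraticMap.polar_add_right]; ring
    have : (2 : K) * q w = 0 := by linear_combination e2 - e3 - e1 + 2 * e4 - e5 - e6
    exact (mul_eq_zero.mp this).resolve_left h2
  suffices h : ∀ n, (g - 1) ^ (n + 1) = 0 → g - 1 = 0 by
    refine sub_eq_zero.mp (h m ?_)
    rw [pow_succ, hm, zero_mul]
  intro n
  induction n with
  | zero => simp
  | succ n ih =>
    intro h
    refine ih (LinearMap.ext fun v => ?_)
    have := LinearMap.congr_fun h v
    rw [show n + 1 + 1 = 2 + n by omega, pow_add, Module.End.mul_apply] at this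
    rw [show n + 1 = 1 + n by omega, pow_add, Module.End.mul_apply, pow_one]
    exact key _ (by simpa [pow_two] using this)

theorem isometry_pow_char_eq_one (p : ℕ) [Fact p.Prime] [CharP K p] (hp : p ≠ 2) [FiniteDimensional K V]
    (q : QuadraticForm K V) (hq : q.Anisotropic) (g : Module.End K V) (hg : ∀ x : V, q (g x) = q x)
    (hgp : g ^ p = 1) : g = 1 := by
  have h2 : (2 : K) ≠ 0 := by
    intro h
    have h' : ((2 : ℕ) : K) = 0 := by exact_mod_cast h
    rw [CharP.cast_eq_zero_iff K p] at h'
    exact hp ((Nat.prime_dvd_prime_iff_eq Fact.out Nat.prime_two).mp h')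
  refine isometry_unipotent_eq_one h2 q hq g hg p ?_
  cases subsingleton_or_nontrivial V with
  | inl h => exact LinearMap.ext fun x => Subsingleton.elim _ _
  | inr h =>
    haveI : Nontrivial (Module.End K V) := inferInstance
    haveI : CharP (Module.End K V) p := charP_of_injective_algebraMap (algebraMap K (Module.End K V)).injective p
    rw [sub_pow_char_of_commute (p := p) (Commute.one_right g), hgp, one_pow, sub_self]

theorem isometry_sq_eq_one (hK : ∀ n : ℕ, 0 < n → (X ^ n - 1 : K[X]).Splits) (h2 : (2 : K) ≠ 0)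
    [FiniteDimensional K V] (q : QuadraticForm K V) (hq : q.Anisotropic)
    (g : Module.End K V) (hg : ∀ x : V, q (g x) = q x) (d : ℕ) (hd : 0 < d) (hgd : g ^ d = 1) :
    g ^ 2 = 1 := by
  have hint : IsIntegral K g := Algebra.IsIntegral.isIntegral g
  have hdvd : minpoly K g ∣ X ^ d - 1 := minpoly.dvd K g (by simp [hgd])
  have hne : (X ^ d - 1 : K[X]) ≠ 0 := X_pow_sub_C_ne_zero hd 1
  have hsp : (minpoly K g).Splits := (hK d hd).of_dvd hne hdvd
  have hroots : ∀ c ∈ (minpoly K g).roots, c ^ 2 = 1 := by
    intro c hc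
    have hev : g.HasEigenvalue c := Module.End.hasEigenvalue_of_isRoot (mem_roots'.mp hc).2
    obtain ⟨v, hv⟩ := hev.exists_hasEigenvector
    have hv0 : q v ≠ 0 := fun h => hv.2 (hq v h)
    have := hg v
    rw [hv.apply_eq_smul, QuadraticMap.map_smul, smul_eq_mul] at this
    rw [pow_two]
    exact mul_right_cancel₀ hv0 (this.trans (one_mul _).symm)
  have hdvd2 : minpoly K g ∣ ((X : K[X]) ^ 2 - 1) ^ (minpoly K g).natDegree := by
    conv_lhs => rw [hsp.eq_prod_roots_of_monic (minpoly.monic hint)]
    rw [hsp.natDegree_eq_card_roots]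
    have : ∀ s : Multiset K, (∀ c ∈ s, c ^ 2 = 1) →
        (s.map fun c => X - C c).prod ∣ ((X : K[X]) ^ 2 - 1) ^ Multiset.card s := by
      intro s
      induction s using Multiset.induction_on with
      | empty => simp
      | cons a s ih =>
        intro h
        rw [Multiset.map_cons, Multiset.prod_cons, Multiset.card_cons, pow_succ']
        refine mul_dvd_mul ?_ (ih fun c hc => h c (Multiset.mem_cons_of_mem hc))
        have ha : a ^ 2 = 1 := h a (Multiset.mem_cons_self _ _)
        exact ⟨X + C a, by rw [← C_1, ← ha, C_pow]; ring⟩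
    exact this _ hroots
  obtain ⟨r, hr⟩ := hdvd2
  have h0 := congrArg (aeval g) hr
  rw [map_mul, minpoly.aeval, zero_mul, map_pow, map_sub, map_pow, aeval_X, map_one] at h0
  exact isometry_unipotent_eq_one h2 q hq (g ^ 2) (fun x => by rw [pow_two, Module.End.mul_apply, hg, hg]) _ h0

end Groth.Agent.H26Misc
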