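/-
The signed central binomial Toeplitz matrix is a Gram matrix.
-/
import Mathlib.LinearAlgebra.Matrix.PosDef
import Mathlib.LinearAlgebra.Matrix.NonsingularInverse
import Mathlib.Data.Nat.Choose.Vandermonde
import Mathlib.Data.Real.Basic
import Mathlib.Data.Nat.Dist
import Mathlib.Tactic

set_option autoImplicit false

open Finset

namespace Groth.Agent.H26Misc

/-- Coefficient of `X ^ l` in `(1 - X) ^ n * X ^ i`, up to the sign `(-1) ^ i`. -/
def binomCol (n : ℕ) (l i : ℕ) : ℝ := if i ≤ l then (-1) ^ l * (n.choose (l - i) : ℝ) else 0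

theorem binomCol_gram (n m : ℕ) (i j : Fin m) :
    ∑ l ∈ range (m + n), binomCol n l i * binomCol n l j = (Nat.choose (2 * n) (n + Nat.dist i j) : ℝ) := by
  wlog hij : (i : ℕ) ≤ (j : ℕ) generalizing i j
  · rw [Nat.dist_comm, ← this j i (by omega)]
    exact sum_congr rfl fun l _ => mul_comm _ _
  obtain ⟨d, hd⟩ := Nat.exists_eq_add_of_le hij
  rw [show Nat.dist (i : ℕ) j = d by rw [Nat.dist_eq_sub_of_le hij]; omega]
  have h1 : ∑ l ∈ range (m + n), binomCol n l i * binomCol n l j =
      ∑ l ∈ range (m + n), if (j : ℕ) ≤ l then ((n.choose (l - i) * n.choose (l - j) : ℕ) : ℝ) else 0 := by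
    refine sum_congr rfl fun l _ => ?_
    simp only [binomCol]
    split_ifs with h h'
    · push_cast
      rw [show (-1 : ℝ) ^ l * (n.choose (l - i) : ℝ) * ((-1) ^ l * (n.choose (l - j) : ℝ)) =
        ((-1 : ℝ) * -1) ^ l * ((n.choose (l - i) : ℝ) * (n.choose (l - j) : ℝ)) by rw [mul_pow]; ring]
      simp
    all_goals first | omega | simp
  rw [h1, ← sum_filter, ← Nat.cast_sum]
  congr 1
  have h2 : (range (m + n)).filter (fun l => (j : ℕ) ≤ l) = Ico (j : ℕ) (m + n) := by
    ext l; simp; omega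
  rw [h2, sum_Ico_eq_sum_range]
  have h3 : ∀ a, n.choose ((j : ℕ) + a - i) * n.choose ((j : ℕ) + a - j) = n.choose (a + d) * n.choose a := by
    intro a; congr 2 <;> omega
  simp only [h3]
  by_cases hdn : d ≤ n
  · have hsym : (2 * n).choose (n + d) = (n + n).choose (n - d) := by
      rw [two_mul, ← Nat.choose_symm (by omega : n + d ≤ n + n)]; congr 1; omega
    rw [hsym, Nat.add_choose_eq, Finset.Nat.sum_antidiagonal_eq_sum_range_succ_mk]
    symm
    refine (sum_congr rfl fun a ha => ?_).trans (sum_subset ?_ ?_)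
    · rw [mem_range] at ha
      rw [show n - d - a = n - (a + d) by omega, Nat.choose_symm (by omega : a + d ≤ n), mul_comm]
    · intro a ha
      simp only [mem_range] at ha ⊢
      omega
    · intro a ha ha'
      simp only [mem_range] at ha ha'
      rw [Nat.choose_eq_zero_of_lt (by omega : n < a + d), zero_mul]
  · rw [Nat.choose_eq_zero_of_lt (by omega : 2 * n < n + d)]
    refine sum_eq_zero fun a _ => ?_
    rw [Nat.choose_eq_zero_of_lt (by omega : n < a + d), zero_mul]

theorem binom_quadForm (n m : ℕ) (x : Fin m → ℝ) :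
    ∑ i : Fin m, ∑ j : Fin m,
        x i * ((-1 : ℝ) ^ ((i : ℕ) + (j : ℕ)) * (Nat.choose (2 * n) (n + Nat.dist i j) : ℝ)) * x j =
      ∑ l ∈ range (m + n), (∑ i : Fin m, binomCol n l i * ((-1) ^ (i : ℕ) * x i)) ^ 2 := by
  simp only [pow_two, sum_mul_sum, ← binomCol_gram, mul_sum, sum_mul]
  conv_rhs => rw [sum_comm]
  refine sum_congr rfl fun i _ => ?_
  conv_rhs => rw [sum_comm]
  refine sum_congr rfl fun j _ => sum_congr rfl fun l _ => ?_
  rw [pow_add]; ring

theorem binom_quadForm_pos (n m : ℕ) {x : Fin m → ℝ} (hx : x ≠ 0) :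
    0 < ∑ i : Fin m, ∑ j : Fin m,
        x i * ((-1 : ℝ) ^ ((i : ℕ) + (j : ℕ)) * (Nat.choose (2 * n) (n + Nat.dist i j) : ℝ)) * x j := by
  classical
  rw [binom_quadForm]
  obtain ⟨i₀, hi₀⟩ := Function.ne_iff.mp hx
  obtain ⟨i, hi, hmin⟩ := Finset.exists_min_image (univ.filter fun i => x i ≠ 0) (fun i => (i : ℕ))
    ⟨i₀, by simpa using hi₀⟩
  simp only [mem_filter, mem_univ, true_and] at hi hmin
  refine lt_of_lt_of_le ?_ (single_le_sum (fun l _ => sq_nonneg _) (mem_range.mpr (show (i : ℕ) < m + n by omega)))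
  have : ∑ j : Fin m, binomCol n i j * ((-1) ^ (j : ℕ) * x j) = binomCol n i i * ((-1) ^ (i : ℕ) * x i) := by
    refine sum_eq_single i (fun j _ hne => ?_) (by simp)
    rcases lt_or_gt_of_ne (fun h => hne (Fin.ext h) : (j : ℕ) ≠ i) with h | h
    · have : x j = 0 := by
        by_contra hne'
        have := hmin j hne'
        omega
      simp [this]
    · simp [binomCol, show ¬ (j : ℕ) ≤ i by omega]
  rw [this]
  have hne : binomCol n i i * ((-1) ^ (i : ℕ) * x i) ≠ 0 := by simp [binomCol, hi]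
  positivity

end Groth.Agent.H26Misc
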