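import Mathlib.LinearAlgebra.Projectivization.Basic
import Mathlib.RingTheory.MvPolynomial.Homogeneous
import Mathlib.LinearAlgebra.Dual.Lemmas
import Mathlib.LinearAlgebra.FiniteDimensional.Lemmas
import Mathlib.Tactic

/-! Cayley–Bacharach sets of points in projective 3-space. -/

namespace Groth.Agent.H26CB

open MvPolynomial Module

universe u

variable {k : Type u} [Field k]

local notation "P3" => Projectivization k (Fin 4 → k)

/-- The Cayley–Bacharach property in degree `n`. -/
def CB (n : ℕ) (Z : Finset P3) : Prop :=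
  ∀ z ∈ Z, ∀ p : MvPolynomial (Fin 4) k, p.IsHomogeneous n →
    (∀ z' ∈ Z, z' ≠ z → eval z'.rep p = 0) → eval z.rep p = 0

open scoped Classical in
/-- Points of `Z` off the subspace `W`. -/
noncomputable def off (W : Submodule k (Fin 4 → k)) (Z : Finset P3) : Finset P3 :=
  Z.filter fun z => z.rep ∉ W

open scoped Classical in
/-- Points of `Z` on the subspace `W`. -/
noncomputable def on (W : Submodule k (Fin 4 → k)) (Z : Finset P3) : Finset P3 :=
  Z.filter fun z => z.rep ∈ W

theorem mem_off {W : Submodule k (Fin 4 → k)} {Z : Finset P3} {z : P3} :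
    z ∈ off W Z ↔ z ∈ Z ∧ z.rep ∉ W := by simp [off]

theorem mem_on {W : Submodule k (Fin 4 → k)} {Z : Finset P3} {z : P3} :
    z ∈ on W Z ↔ z ∈ Z ∧ z.rep ∈ W := by simp [on]

theorem card_on_add_off (W : Submodule k (Fin 4 → k)) (Z : Finset P3) :
    (on W Z).card + (off W Z).card = Z.card := by
  classical
  simp only [on, off]
  exact Finset.card_filter_add_card_filter_not _

theorem cb_off {n : ℕ} {Z : Finset P3} (h : CB (n + 1) Z) (W : Submodule k (Fin 4 → k)) :
    CB n (off W Z) := by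
  intro z hz p hp hvan
  rw [mem_off] at hz
  obtain ⟨φ, hφ, hW⟩ := Submodule.exists_dual_map_eq_bot_of_notMem hz.2 inferInstance
  have hW' : ∀ w ∈ W, φ w = 0 := fun w hw => by
    have : φ w ∈ Submodule.map φ W := Submodule.mem_map_of_mem hw
    rwa [hW, Submodule.mem_bot] at this
  let l : MvPolynomial (Fin 4) k := ∑ i, C (φ (Pi.single i 1)) * X i
  have hl : l.IsHomogeneous 1 := IsHomogeneous.sum _ _ _ fun i _ => isHomogeneous_C_mul_X _ _
  have heval : ∀ v : Fin 4 → k, eval v l = φ v := fun v => by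
    conv_rhs => rw [pi_eq_sum_univ' v, map_sum]
    simp [l, mul_comm]
  have h1 := h z hz.1 (p * l) (hp.mul hl) (fun z' hz' hne => by
    rw [map_mul, heval]
    by_cases hw : z'.rep ∈ W
    · rw [hW' _ hw, mul_zero]
    · rw [hvan z' (mem_off.2 ⟨hz', hw⟩) hne, zero_mul])
  rw [map_mul, heval, mul_eq_zero] at h1
  exact h1.resolve_right hφ

theorem not_cb_singleton {n : ℕ} {Z : Finset P3} {z : P3} (hZ : Z = {z}) : ¬ CB n Z := by
  intro h
  obtain ⟨i, hi⟩ : ∃ i, z.rep i ≠ 0 := by
    by_contra hc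
    push Not at hc
    exact z.rep_nonzero (funext hc)
  have h1 := h z (by simp [hZ]) (X i ^ n) (isHomogeneous_X_pow i n) (by simp [hZ])
  rw [map_pow, eval_X] at h1
  exact hi (eq_zero_of_pow_eq_zero h1)

theorem eq_of_rep_mem_span {a b : P3} (h : b.rep ∈ Submodule.span k ({a.rep} : Set (Fin 4 → k))) : a = b := by
  obtain ⟨c, hc⟩ := Submodule.mem_span_singleton.1 h
  rw [← Projectivization.mk_rep a, ← Projectivization.mk_rep b]
  exact ((Projectivization.mk_eq_mk_iff' k _ _ b.rep_nonzero a.rep_nonzero).2 ⟨c, hc⟩).symm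

theorem card_le {Z : Finset P3} : ∀ {n : ℕ}, CB n Z → Z.Nonempty → n + 2 ≤ Z.card := by
  intro n
  induction n generalizing Z with
  | zero =>
    intro h hne
    by_contra hc
    obtain ⟨z, hz⟩ := Finset.card_eq_one.1 (show Z.card = 1 by have := hne.card_pos; omega)
    exact not_cb_singleton hz h
  | succ n ih =>
    intro h hne
    obtain ⟨z, hz⟩ := hne
    have h2 := card_on_add_off (Submodule.span k {z.rep}) Z
    have hon : 0 < (on (Submodule.span k {z.rep}) Z).card :=
      Finset.card_pos.2 ⟨z, mem_on.2 ⟨hz, Submodule.mem_span_singleton_self _⟩⟩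
    by_cases he : (off (Submodule.span k {z.rep}) Z).Nonempty
    · have := ih (cb_off h _) he
      omega
    · rw [Finset.not_nonempty_iff_eq_empty] at he
      have hall : Z = {z} := by
        refine Finset.eq_singleton_iff_unique_mem.2 ⟨hz, fun w hw => ?_⟩
        by_contra hne
        have : w ∈ off (Submodule.span k {z.rep}) Z :=
          mem_off.2 ⟨hw, fun hm => hne (eq_of_rep_mem_span hm).symm⟩
        simp [he] at this
      exact absurd h (not_cb_singleton hall)

theorem finrank_sup_point (W : Submodule k (Fin 4 → k)) (v : Fin 4 → k) (hv : v ∉ W) :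
    finrank k ↥(W ⊔ Submodule.span k {v}) = finrank k W + 1 := by
  have h0 : v ≠ 0 := fun h => hv (h ▸ W.zero_mem)
  have hdis : W ⊓ Submodule.span k {v} = ⊥ := by
    rw [eq_bot_iff]
    rintro x ⟨hx, hxs⟩
    obtain ⟨c, rfl⟩ := Submodule.mem_span_singleton.1 hxs
    by_cases hc : c = 0
    · simp [hc]
    · exact absurd (by simpa [hc] using W.smul_mem c⁻¹ hx) hv
  have := Submodule.finrank_sup_add_finrank_inf_eq W (Submodule.span k {v})
  rw [hdis, finrank_bot, finrank_span_singleton h0] at this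
  omega

theorem finrank_line {a b : P3} (h : a ≠ b) :
    finrank k ↥(Submodule.span k {a.rep} ⊔ Submodule.span k {b.rep}) = 2 := by
  rw [finrank_sup_point _ _ fun hm => h (eq_of_rep_mem_span hm), finrank_span_singleton a.rep_nonzero]

theorem line_eq {L : Submodule k (Fin 4 → k)} (hL : finrank k L = 2) {a b : P3} (h : a ≠ b)
    (ha : a.rep ∈ L) (hb : b.rep ∈ L) :
    Submodule.span k {a.rep} ⊔ Submodule.span k {b.rep} = L := by
  refine Submodule.eq_of_le_of_finrank_eq (sup_le ?_ ?_) (by rw [finrank_line h, hL])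
  · rwa [Submodule.span_singleton_le_iff_mem]
  · rwa [Submodule.span_singleton_le_iff_mem]

theorem collinear {Z : Finset P3} : ∀ {n : ℕ}, CB n Z → Z.Nonempty → Z.card ≤ 2 * n + 1 →
    ∃ W : Submodule k (Fin 4 → k), finrank k W = 2 ∧ ∀ z ∈ Z, z.rep ∈ W := by
  intro n
  induction n generalizing Z with
  | zero =>
    intro h hne hc
    have := card_le h hne
    omega
  | succ n ih =>
    intro h hne hc
    have hcard := card_le h hne
    obtain ⟨a, ha, b, hb, hab⟩ := Finset.one_lt_card.1 (show 1 < Z.card by omega)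
    set L := Submodule.span k {a.rep} ⊔ Submodule.span k {b.rep}
    have haL : a.rep ∈ L := Submodule.mem_sup_left (Submodule.mem_span_singleton_self _)
    have hbL : b.rep ∈ L := Submodule.mem_sup_right (Submodule.mem_span_singleton_self _)
    by_cases he : (off L Z).Nonempty
    · have h2 := card_on_add_off L Z
      have hon : 2 ≤ (on L Z).card :=
        Finset.one_lt_card.2 ⟨a, mem_on.2 ⟨ha, haL⟩, b, mem_on.2 ⟨hb, hbL⟩, hab⟩
      obtain ⟨L', hL', hmem⟩ := ih (cb_off h L) he (by omega)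
      have hZ' := card_le (cb_off h L) he
      refine ⟨L', hL', fun z hz => ?_⟩
      by_contra hzn
      have hZ'' := card_le (cb_off h L') ⟨z, mem_off.2 ⟨hz, hzn⟩⟩
      have hsub : off L Z ⊆ on L' Z := fun w hw => mem_on.2 ⟨(mem_off.1 hw).1, hmem w hw⟩
      have := Finset.card_le_card hsub
      have := card_on_add_off L' Z
      omega
    · refine ⟨L, finrank_line hab, fun z hz => ?_⟩
      by_contra hzn
      exact he ⟨z, mem_off.2 ⟨hz, hzn⟩⟩

theorem extend_to_three : ∀ (j : ℕ) (W : Submodule k (Fin 4 → k)), finrank k W + j = 3 →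
    ∃ W' : Submodule k (Fin 4 → k), W ≤ W' ∧ finrank k W' = 3 := by
  intro j
  induction j with
  | zero => exact fun W hW => ⟨W, le_rfl, hW⟩
  | succ j ih =>
    intro W hW
    obtain ⟨v, hv⟩ : ∃ v, v ∉ W := by
      by_contra hc
      push Not at hc
      rw [(Submodule.eq_top_iff').2 hc, finrank_top, Module.finrank_fin_fun] at hW
      omega
    obtain ⟨W', hle, h3⟩ := ih (W ⊔ Submodule.span k {v}) (by rw [finrank_sup_point W v hv]; omega)
    exact ⟨W', le_sup_left.trans hle, h3⟩

/-- All points of `Z` lie in a plane. -/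
def Coplanar (Z : Finset P3) : Prop :=
  ∃ W : Submodule k (Fin 4 → k), finrank k W = 3 ∧ ∀ z ∈ Z, z.rep ∈ W

theorem coplanar_of_le {Z : Finset P3} {W : Submodule k (Fin 4 → k)} (h : finrank k W ≤ 3)
    (hZ : ∀ z ∈ Z, z.rep ∈ W) : Coplanar Z := by
  obtain ⟨W', hle, h3⟩ := extend_to_three (3 - finrank k W) W (by omega)
  exact ⟨W', h3, fun z hz => hle (hZ z hz)⟩

/-- `Z` lies on two skew lines, each carrying at least `n + 2` points. -/
def TwoLines (n : ℕ) (Z : Finset P3) : Prop :=
  ∃ L₁ L₂ : Submodule k (Fin 4 → k), finrank k L₁ = 2 ∧ finrank k L₂ = 2 ∧ L₁ ⊓ L₂ = ⊥ ∧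
    (∀ z ∈ Z, z.rep ∈ L₁ ∨ z.rep ∈ L₂) ∧ n + 2 ≤ (on L₁ Z).card ∧ n + 2 ≤ (on L₂ Z).card

theorem skew_card {n : ℕ} {Z : Finset P3} (h : CB (n + 1) Z) {L₁ L₂ : Submodule k (Fin 4 → k)}
    (hskew : L₁ ⊓ L₂ = ⊥) (hcov : ∀ z ∈ Z, z.rep ∈ L₁ ∨ z.rep ∈ L₂) (hne : (on L₂ Z).Nonempty) :
    n + 3 ≤ (on L₂ Z).card := by
  classical
  obtain ⟨b, hb⟩ := hne
  rw [mem_on] at hb
  have hzero : ∀ x : Fin 4 → k, x ∈ L₁ → x ∈ L₂ → x = 0 := fun x h1 h2 =>
    (Submodule.mem_bot k).1 (hskew ▸ ⟨h1, h2⟩)
  set P := L₁ ⊔ Submodule.span k {b.rep}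
  have hP : ∀ z ∈ Z, z.rep ∈ L₂ → z.rep ∈ P → z = b := by
    intro z _ hz2 hzP
    obtain ⟨x, hx, y, hy, hxy⟩ := Submodule.mem_sup.1 hzP
    have hy2 : y ∈ L₂ := by
      obtain ⟨c, rfl⟩ := Submodule.mem_span_singleton.1 hy
      exact L₂.smul_mem c hb.2
    have hx0 : x = 0 := hzero x hx (by
      rw [show x = z.rep - y by rw [← hxy]; simp]
      exact L₂.sub_mem hz2 hy2)
    rw [hx0, zero_add] at hxy
    exact (eq_of_rep_mem_span (hxy ▸ hy)).symm
  by_cases he : (off P Z).Nonempty
  · have h1 := card_le (cb_off h P) he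
    have hsub : insert b (off P Z) ⊆ on L₂ Z := by
      intro z hz
      rcases Finset.mem_insert.1 hz with rfl | hz
      · exact mem_on.2 hb
      · rw [mem_off] at hz
        exact mem_on.2 ⟨hz.1, (hcov z hz.1).resolve_left fun h => hz.2 (Submodule.mem_sup_left h)⟩
    have h2 := Finset.card_le_card hsub
    rw [Finset.card_insert_of_notMem (fun h => (mem_off.1 h).2
      (Submodule.mem_sup_right (Submodule.mem_span_singleton_self _)))] at h2
    simp only [P] at *
    omega
  · exfalso
    have hoff : off L₁ Z = {b} := by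
      refine Finset.eq_singleton_iff_unique_mem.2 ⟨mem_off.2 ⟨hb.1, fun h => b.rep_nonzero (hzero _ h hb.2)⟩,
        fun z hz => ?_⟩
      rw [mem_off] at hz
      refine hP z hz.1 ((hcov z hz.1).resolve_left hz.2) ?_
      by_contra hzP
      exact he ⟨z, mem_off.2 ⟨hz.1, hzP⟩⟩
    exact not_cb_singleton hoff (cb_off h L₁)

theorem two_lines_or_coplanar {Z : Finset P3} : ∀ {n : ℕ}, CB n Z → Z.card ≤ 3 * n + 1 →
    Coplanar Z ∨ TwoLines n Z := by
  classical
  intro n
  induction n generalizing Z with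
  | zero =>
    intro h hc
    left
    rcases Z.eq_empty_or_nonempty with rfl | hne
    · exact coplanar_of_le (W := ⊥) (by simp) (by simp)
    · have := card_le h hne
      omega
  | succ n ih =>
    intro h hc
    by_cases hcop : Coplanar Z
    · exact Or.inl hcop
    right
    have hout : ∀ W : Submodule k (Fin 4 → k), finrank k W ≤ 3 → (off W Z).Nonempty := fun W hW => by
      by_contra he
      exact hcop (coplanar_of_le hW fun z hz => by
        by_contra hzn; exact he ⟨z, mem_off.2 ⟨hz, hzn⟩⟩)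
    obtain ⟨a, ha⟩ := hout ⊥ (by simp)
    obtain ⟨b, hb⟩ := hout (Submodule.span k {a.rep}) (by rw [finrank_span_singleton a.rep_nonzero]; omega)
    rw [mem_off] at ha hb
    have hab : a ≠ b := fun e => hb.2 (e ▸ Submodule.mem_span_singleton_self _)
    obtain ⟨c, hc'⟩ := hout (Submodule.span k {a.rep} ⊔ Submodule.span k {b.rep}) (by rw [finrank_line hab]; omega)
    rw [mem_off] at hc'
    set W₀ := Submodule.span k {a.rep} ⊔ Submodule.span k {b.rep} ⊔ Submodule.span k {c.rep}
    have hW₀ : finrank k W₀ = 3 := by rw [finrank_sup_point _ _ hc'.2, finrank_line hab]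
    have h3 : 3 ≤ (on W₀ Z).card := by
      have hsub : ({a, b, c} : Finset P3) ⊆ on W₀ Z := by
        intro z hz
        simp only [Finset.mem_insert, Finset.mem_singleton] at hz
        rcases hz with rfl | rfl | rfl
        · exact mem_on.2 ⟨ha.1, Submodule.mem_sup_left (Submodule.mem_sup_left (Submodule.mem_span_singleton_self _))⟩
        · exact mem_on.2 ⟨hb.1, Submodule.mem_sup_left (Submodule.mem_sup_right (Submodule.mem_span_singleton_self _))⟩
        · exact mem_on.2 ⟨hc'.1, Submodule.mem_sup_right (Submodule.mem_span_singleton_self _)⟩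
      refine le_trans (le_of_eq ?_) (Finset.card_le_card hsub)
      rw [Finset.card_eq_three.2 ⟨a, b, c, hab,
        fun e => hc'.2 (e ▸ Submodule.mem_sup_left (Submodule.mem_span_singleton_self _)),
        fun e => hc'.2 (e ▸ Submodule.mem_sup_right (Submodule.mem_span_singleton_self _)), rfl⟩]
    -- a plane with the most points
    let S : Set ℕ := {r | ∃ W : Submodule k (Fin 4 → k), finrank k W = 3 ∧ (on W Z).card = r}
    have hSb : BddAbove S := ⟨Z.card, by rintro r ⟨W, -, rfl⟩; exact Finset.card_filter_le _ _⟩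
    have hSne : S.Nonempty := ⟨_, W₀, hW₀, rfl⟩
    obtain ⟨W, hW, hWS⟩ := Nat.sSup_mem hSne hSb
    have hmax : ∀ W' : Submodule k (Fin 4 → k), finrank k W' = 3 → (on W' Z).card ≤ (on W Z).card :=
      fun W' hW' => hWS ▸ le_csSup hSb ⟨W', hW', rfl⟩
    have h3W : 3 ≤ (on W Z).card := h3.trans (hmax W₀ hW₀)
    have hne' := hout W hW.le
    have hcb' := cb_off h W
    have hsum := card_on_add_off W Z
    have hZ' := card_le hcb' hne'
    -- the residual set is collinear
    obtain ⟨L, hL, hLmem⟩ : ∃ L : Submodule k (Fin 4 → k), finrank k L = 2 ∧ ∀ z ∈ off W Z, z.rep ∈ L := by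
      rcases ih hcb' (by omega) with ⟨W', hW', hmem⟩ | ⟨L₁, L₂, h1, h2, hskew, hcov, hc1, hc2⟩
      · refine collinear hcb' hne' ?_
        have hsub : off W Z ⊆ on W' Z := fun z hz => mem_on.2 ⟨(mem_off.1 hz).1, hmem z hz⟩
        have := Finset.card_le_card hsub
        have := hmax W' hW'
        omega
      · exfalso
        obtain ⟨z, hz⟩ : (on L₂ (off W Z)).Nonempty := Finset.card_pos.1 (by omega)
        rw [mem_on] at hz
        have hzn : z.rep ∉ L₁ := fun h1' => z.rep_nonzero ((Submodule.mem_bot k).1 (hskew ▸ ⟨h1', hz.2⟩))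
        have hP : finrank k ↥(L₁ ⊔ Submodule.span k {z.rep}) = 3 := by rw [finrank_sup_point _ _ hzn, h1]
        have hsub : insert z (on L₁ (off W Z)) ⊆ on (L₁ ⊔ Submodule.span k {z.rep}) Z := by
          intro w hw
          rcases Finset.mem_insert.1 hw with rfl | hw
          · exact mem_on.2 ⟨(mem_off.1 hz.1).1, Submodule.mem_sup_right (Submodule.mem_span_singleton_self _)⟩
          · rw [mem_on, mem_off] at hw
            exact mem_on.2 ⟨hw.1.1, Submodule.mem_sup_left hw.2⟩
        have hle := Finset.card_le_card hsub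
        rw [Finset.card_insert_of_notMem (fun hh => hzn (mem_on.1 hh).2)] at hle
        have hdisj : Disjoint (on L₁ (off W Z)) (on L₂ (off W Z)) := Finset.disjoint_left.2 fun w hw1 hw2 =>
          w.rep_nonzero ((Submodule.mem_bot k).1 (hskew ▸ ⟨(mem_on.1 hw1).2, (mem_on.1 hw2).2⟩))
        have hun := Finset.card_le_card (show on L₁ (off W Z) ∪ on L₂ (off W Z) ⊆ off W Z from
          Finset.union_subset (Finset.filter_subset _ _) (Finset.filter_subset _ _))
        rw [Finset.card_union_of_disjoint hdisj] at hun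
        have := hmax _ hP
        omega
    have hneL := hout L (by omega)
    have hcbL := cb_off h L
    have hsubL : off W Z ⊆ on L Z := fun z hz => mem_on.2 ⟨(mem_off.1 hz).1, hLmem z hz⟩
    have hLW : off L Z ⊆ on W Z := fun z hz => mem_on.2 ⟨(mem_off.1 hz).1, by
      by_contra hzW; exact (mem_off.1 hz).2 (hLmem z (mem_off.2 ⟨(mem_off.1 hz).1, hzW⟩))⟩
    have haL := Finset.card_le_card hsubL
    have hsumL := card_on_add_off L Z
    have hhWL : (on L Z).card + 1 ≤ (on W Z).card := by
      obtain ⟨z, hz⟩ := hneL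
      rw [mem_off] at hz
      have hP : finrank k ↥(L ⊔ Submodule.span k {z.rep}) = 3 := by rw [finrank_sup_point _ _ hz.2, hL]
      refine le_trans ?_ (hmax _ hP)
      rw [← Finset.card_insert_of_notMem (fun hh : z ∈ on L Z => hz.2 (mem_on.1 hh).2)]
      refine Finset.card_le_card fun w hw => ?_
      rcases Finset.mem_insert.1 hw with rfl | hw
      · exact mem_on.2 ⟨hz.1, Submodule.mem_sup_right (Submodule.mem_span_singleton_self _)⟩
      · exact mem_on.2 ⟨(mem_on.1 hw).1, Submodule.mem_sup_left (mem_on.1 hw).2⟩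
    obtain ⟨L₂, hL₂, hL₂mem⟩ : ∃ L₂ : Submodule k (Fin 4 → k), finrank k L₂ = 2 ∧ ∀ z ∈ off L Z, z.rep ∈ L₂ := by
      by_cases hsmall : (off L Z).card ≤ 2 * n + 1
      · exact collinear hcbL hneL hsmall
      push Not at hsmall
      obtain ⟨z, hz⟩ := hneL
      rw [mem_off] at hz
      set W₂ := L ⊔ Submodule.span k {z.rep} with hW₂
      have hW₂3 : finrank k W₂ = 3 := by rw [hW₂, finrank_sup_point _ _ hz.2, hL]
      have hne2 := hout W₂ hW₂3.le
      have hsub2 : off W₂ Z ⊆ (off L Z).erase z := fun w hw => by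
        rw [mem_off] at hw
        refine Finset.mem_erase.2 ⟨fun e => hw.2 (e ▸ Submodule.mem_sup_right (Submodule.mem_span_singleton_self _)),
          mem_off.2 ⟨hw.1, fun hh => hw.2 (Submodule.mem_sup_left hh)⟩⟩
      have hle2 := Finset.card_le_card hsub2
      rw [Finset.card_erase_of_mem (mem_off.2 hz)] at hle2
      obtain ⟨L₂, hL₂, hmem2⟩ := collinear (cb_off h W₂) hne2 (by omega)
      have hbig := card_le (cb_off h W₂) hne2
      refine ⟨L₂, hL₂, fun q hq => ?_⟩
      by_contra hqn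
      have hL2W : L₂ ≤ W := by
        obtain ⟨x, hx, y, hy, hxy⟩ := Finset.one_lt_card.1 (show 1 < (off W₂ Z).card by omega)
        rw [← line_eq hL₂ hxy (hmem2 x hx) (hmem2 y hy)]
        refine sup_le ?_ ?_ <;> rw [Submodule.span_singleton_le_iff_mem]
        · exact (mem_on.1 (hLW (Finset.mem_of_mem_erase (hsub2 hx)))).2
        · exact (mem_on.1 (hLW (Finset.mem_of_mem_erase (hsub2 hy)))).2
      obtain ⟨w, hw⟩ := hne'
      rw [mem_off] at hw
      have hwn : w.rep ∉ L₂ := fun hh => hw.2 (hL2W hh)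
      set P := L₂ ⊔ Submodule.span k {w.rep} with hPdef
      have hP : finrank k P = 3 := by rw [hPdef, finrank_sup_point _ _ hwn, hL₂]
      have hPW : ∀ x : Fin 4 → k, x ∈ P → x ∈ W → x ∈ L₂ := by
        intro x hxP hxW
        obtain ⟨s, hs, t, ht, rfl⟩ := Submodule.mem_sup.1 hxP
        obtain ⟨r, rfl⟩ := Submodule.mem_span_singleton.1 ht
        have h1 : r • w.rep ∈ W := by simpa using W.sub_mem hxW (hL2W hs)
        by_cases hr : r = 0
        · simpa [hr] using hs
        · exact absurd (by simpa [hr] using W.smul_mem r⁻¹ h1) hw.2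
      have hqP : q ∈ off P Z := mem_off.2 ⟨(mem_off.1 hq).1, fun hh => hqn (hPW _ hh (mem_on.1 (hLW hq)).2)⟩
      have hwin : w ∈ on P Z := mem_on.2 ⟨hw.1, Submodule.mem_sup_right (Submodule.mem_span_singleton_self _)⟩
      have hcnt : (off W₂ Z).card + 1 ≤ (on P Z).card := by
        rw [← Finset.card_insert_of_notMem (fun hh : w ∈ off W₂ Z =>
          (mem_off.1 hh).2 (Submodule.mem_sup_left (hLmem w (mem_off.2 hw))))]
        refine Finset.card_le_card fun x hx => ?_
        rcases Finset.mem_insert.1 hx with rfl | hx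
        · exact hwin
        · exact mem_on.2 ⟨(mem_off.1 hx).1, Submodule.mem_sup_left (hmem2 x hx)⟩
      have hsumP := card_on_add_off P Z
      obtain ⟨L₃, hL₃, hmem3⟩ := collinear (cb_off h P) ⟨q, hqP⟩ (by omega)
      have h3c := card_le (cb_off h P) ⟨q, hqP⟩
      by_cases hLP : L ≤ P
      · have hsub3 : off P Z ⊆ off L Z \ off W₂ Z := fun x hx => by
          rw [mem_off] at hx
          refine Finset.mem_sdiff.2 ⟨mem_off.2 ⟨hx.1, fun hh => hx.2 (hLP hh)⟩,
            fun hh => hx.2 (Submodule.mem_sup_left (hmem2 x hh))⟩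
        have := Finset.card_le_card hsub3
        rw [Finset.card_sdiff_of_subset (hsub2.trans (Finset.erase_subset _ _))] at this
        omega
      · have hLsub : (on L Z).erase w ⊆ off P Z := fun x hx => by
          obtain ⟨hxw, hx⟩ := Finset.mem_erase.1 hx
          rw [mem_on] at hx
          refine mem_off.2 ⟨hx.1, fun hh => hLP ?_⟩
          rw [← line_eq hL hxw hx.2 (hLmem w (mem_off.2 hw))]
          refine sup_le ?_ ?_ <;> rw [Submodule.span_singleton_le_iff_mem]
          · exact hh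
          · exact (mem_on.1 hwin).2
        have hle3 := Finset.card_le_card hLsub
        rw [Finset.card_erase_of_mem (mem_on.2 ⟨hw.1, hLmem w (mem_off.2 hw)⟩)] at hle3
        obtain ⟨x, hx, y, hy, hxy⟩ := Finset.one_lt_card.1
          (show 1 < ((on L Z).erase w).card by
            rw [Finset.card_erase_of_mem (mem_on.2 ⟨hw.1, hLmem w (mem_off.2 hw)⟩)]; omega)
        have hL3 : L = L₃ := by
          rw [← line_eq hL hxy (mem_on.1 (Finset.mem_of_mem_erase hx)).2 (mem_on.1 (Finset.mem_of_mem_erase hy)).2,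
            line_eq hL₃ hxy (hmem3 x (hLsub hx)) (hmem3 y (hLsub hy))]
        exact (mem_off.1 hq).2 (hL3 ▸ hmem3 q hqP)
    have hskew : L ⊓ L₂ = ⊥ := by
      by_contra hne
      have h1 := Submodule.finrank_sup_add_finrank_inf_eq L L₂
      have h2 : finrank k ↥(L ⊓ L₂) ≠ 0 := fun h0 => hne (Submodule.finrank_eq_zero.1 h0)
      refine hcop (coplanar_of_le (W := L ⊔ L₂) (by omega) fun z hz => ?_)
      by_cases hzL : z.rep ∈ L
      · exact Submodule.mem_sup_left hzL
      · exact Submodule.mem_sup_right (hL₂mem z (mem_off.2 ⟨hz, hzL⟩))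
    have hcov : ∀ z ∈ Z, z.rep ∈ L ∨ z.rep ∈ L₂ := fun z hz => by
      by_cases hzL : z.rep ∈ L
      · exact Or.inl hzL
      · exact Or.inr (hL₂mem z (mem_off.2 ⟨hz, hzL⟩))
    refine ⟨L, L₂, hL, hL₂, hskew, hcov, skew_card h (by rwa [inf_comm] at hskew)
      (fun z hz => (hcov z hz).symm) (hne'.mono hsubL), skew_card h hskew hcov ?_⟩
    obtain ⟨z, hz⟩ := hneL
    exact ⟨z, mem_on.2 ⟨(mem_off.1 hz).1, hL₂mem z hz⟩⟩

end Groth.Agent.H26CB
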