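/-
Finite groups of automorphisms of the projective line minus a conjugate pair of points.
-/
import Mathlib.RingTheory.GradedAlgebra.HomogeneousLocalization
import Mathlib.RingTheory.MvPolynomial.Homogeneous
import Mathlib.Algebra.Polynomial.Laurent
import Mathlib.Algebra.Polynomial.Splits
import Mathlib.RingTheory.AdjoinRoot
import Mathlib.Algebra.Polynomial.SpecificDegree
import Mathlib.RingTheory.Polynomial.Basic
import Mathlib.GroupTheory.OrderOfElement
import Mathlib.SetTheory.Cardinal.Finite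
import Mathlib.Tactic

set_option autoImplicit false
universe u

open LaurentPolynomial

attribute [local instance] MvPolynomial.gradedAlgebra

namespace Groth.Agent.H26Misc.ConicAut

theorem exists_eq_C_mul_T_of_isUnit {L : Type u} [Field L] {u : LaurentPolynomial L} (hu : IsUnit u) :
    ∃ (c : L) (n : ℤ), c ≠ 0 ∧ u = C c * T n := by
  obtain ⟨v, hv⟩ := hu.exists_right_inv
  obtain ⟨n, f, hf⟩ := exists_T_pow u
  obtain ⟨m, g, hg⟩ := exists_T_pow v
  have hfg : f * g = Polynomial.X ^ (n + m) := by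
    apply Polynomial.toLaurent_injective
    rw [map_mul, hf, hg, Polynomial.toLaurent_X_pow, mul_mul_mul_comm, hv, one_mul, ← T_add]
    push_cast; rfl
  obtain ⟨i, -, w, hw⟩ := (dvd_prime_pow Polynomial.prime_X (n + m)).mp ⟨g, hfg.symm⟩
  obtain ⟨c, hc, hcw⟩ := Polynomial.isUnit_iff.mp (w⁻¹).isUnit
  have hfe : f = Polynomial.C c * Polynomial.X ^ i := by
    rw [hcw, ← hw, mul_comm ((w⁻¹ : (Polynomial L)ˣ) : Polynomial L), Units.mul_inv_cancel_right]
  refine ⟨c, (i : ℤ) - n, hc.ne_zero, ?_⟩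
  have : u = Polynomial.toLaurent f * T (-(n : ℤ)) := by
    rw [hf, mul_T_assoc, add_neg_cancel, T_zero, mul_one]
  rw [this, hfe, map_mul, Polynomial.toLaurent_C, Polynomial.toLaurent_X_pow, mul_assoc, ← T_add,
    sub_eq_add_neg]

theorem C_mul_T_inj {L : Type u} [Field L] {c d : L} {m n : ℤ} (hc : c ≠ 0)
    (h : (C c * T m : LaurentPolynomial L) = C d * T n) : m = n ∧ c = d := by
  have h1 := congrArg (fun p : LaurentPolynomial L => p.coeff m) h
  simp only [← single_eq_C_mul_T, AddMonoidAlgebra.coeff_single, Finsupp.single_eq_same] at h1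
  by_cases hmn : m = n
  · subst hmn; simp at h1; exact ⟨rfl, h1⟩
  · simp [Finsupp.single_eq_of_ne, hmn] at h1; exact absurd h1 hc

section data

variable {K L : Type u} [Field K] [Field L] [Algebra K L]

/-- `C ∘ algebraMap`. -/
noncomputable def κ : K →+* LaurentPolynomial L := C.comp (algebraMap K L)

/-- Images of the two variables, normalised so that `X - ω Y ↦ T` and `X - ω' Y ↦ 1`. -/
noncomputable def xy (ω ω' : L) : Fin 2 → LaurentPolynomial L :=
  ![(C ω' * T 1 - C ω) * C (ω' - ω)⁻¹, (T 1 - 1) * C (ω' - ω)⁻¹]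

/-- Evaluation at `xy`. -/
noncomputable def ev (ω ω' : L) : MvPolynomial (Fin 2) K →+* LaurentPolynomial L :=
  MvPolynomial.eval₂Hom κ (xy ω ω')

theorem ev_factor {ω ω' : L} (h : ω ≠ ω') :
    xy ω ω' 0 - C ω * xy ω ω' 1 = T 1 ∧ xy ω ω' 0 - C ω' * xy ω ω' 1 = 1 := by
  have hδ : ω' - ω ≠ 0 := sub_ne_zero.mpr (Ne.symm h)
  have e : (C (ω' - ω) : LaurentPolynomial L) * C (ω' - ω)⁻¹ = 1 := by
    rw [← map_mul, mul_inv_cancel₀ hδ, map_one]
  rw [map_sub] at e
  simp only [xy, Matrix.cons_val_zero, Matrix.cons_val_one]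
  constructor
  · linear_combination (T 1) * e
  · linear_combination e

/-- The `σ`-semilinear involution `T ↦ T⁻¹`. -/
noncomputable def conj (σ : L →ₐ[K] L) : LaurentPolynomial L →+* LaurentPolynomial L :=
  LaurentPolynomial.eval₂ (C.comp σ.toRingHom) (isUnit_T (-1)).unit

theorem conj_C (σ : L →ₐ[K] L) (l : L) : conj σ (C l) = C (σ l) := eval₂_C _ _ l

theorem conj_T (σ : L →ₐ[K] L) (n : ℤ) : conj σ (T n) = T (-n) := by
  rcases Int.eq_nat_or_neg n with ⟨k, rfl | rfl⟩
  · rw [conj, eval₂_T_n, IsUnit.unit_spec, T_pow, mul_neg, mul_one]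
  · have h : conj σ (T (k : ℤ)) = T (-(k : ℤ)) := by
      rw [conj, eval₂_T_n, IsUnit.unit_spec, T_pow, mul_neg, mul_one]
    have h2 : conj σ (T (k : ℤ)) * conj σ (T (-(k : ℤ))) = 1 := by
      rw [← map_mul, ← T_add, add_neg_cancel, T_zero, map_one]
    rw [h] at h2
    rw [neg_neg]
    calc conj σ (T (-(k : ℤ))) = T (k : ℤ) * (T (-(k : ℤ)) * conj σ (T (-(k : ℤ)))) := by
          rw [← mul_assoc, ← T_add, add_neg_cancel, T_zero, one_mul]
      _ = T (k : ℤ) := by rw [h2, mul_one]

theorem conj_ev {σ : L →ₐ[K] L} {ω ω' : L} (h : σ ω = ω') (h' : σ ω' = ω) {d : ℕ}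
    {f : MvPolynomial (Fin 2) K} (hf : f.IsHomogeneous d) :
    conj σ (ev ω ω' f) = T (-(d : ℤ)) * ev ω ω' f := by
  have hx : ∀ i, conj σ (xy ω ω' i) = T (-1) * xy ω ω' i := by
    intro i
    have e : (C (ω - ω')⁻¹ : LaurentPolynomial L) = - C (ω' - ω)⁻¹ := by
      rw [← map_neg, ← neg_sub ω' ω, inv_neg]
    have hT : (T (-1) : LaurentPolynomial L) * T 1 = 1 := by rw [← T_add, neg_add_cancel, T_zero]
    fin_cases i <;>
      simp only [xy, Matrix.cons_val_zero, Matrix.cons_val_one, map_mul, map_sub, conj_C, conj_T,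
        map_inv₀, h, h', map_one, Fin.zero_eta, Fin.mk_one, e]
    · linear_combination (-(C ω') * C (ω' - ω)⁻¹) * hT
    · linear_combination (-(C (ω' - ω)⁻¹)) * hT
  rw [ev, MvPolynomial.coe_eval₂Hom, MvPolynomial.eval₂_eq, map_sum, Finset.mul_sum]
  refine Finset.sum_congr rfl fun e he => ?_
  rw [map_mul, map_prod]
  simp only [map_pow, hx, mul_pow, Finset.prod_mul_distrib, Finset.prod_pow_eq_pow_sum]
  have hde : ∑ i ∈ e.support, e i = d := by
    rw [← Finsupp.degree_apply]; exact hf.degree_eq_sum_deg_support he |>.symm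
  rw [hde, T_pow, κ, RingHom.comp_apply, conj_C, σ.commutes]
  rw [mul_neg, mul_one]; ring

theorem eq_zero_of_ev {ω ω' : L} (h : ω ≠ ω') {d : ℕ} {f : MvPolynomial (Fin 2) K}
    (hf : f.IsHomogeneous d) (h0 : ev ω ω' f = 0) : f = 0 := by
  classical
  have hδ : ω' - ω ≠ 0 := sub_ne_zero.mpr (Ne.symm h)
  let u : MvPolynomial (Fin 2) L := MvPolynomial.X 0
  let v : MvPolynomial (Fin 2) L := MvPolynomial.X 1
  let Φv : Fin 2 → MvPolynomial (Fin 2) L :=
    ![(MvPolynomial.C ω' * u - MvPolynomial.C ω * v) * MvPolynomial.C (ω' - ω)⁻¹,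
      (u - v) * MvPolynomial.C (ω' - ω)⁻¹]
  let Φ : MvPolynomial (Fin 2) K →ₐ[K] MvPolynomial (Fin 2) L := MvPolynomial.aeval Φv
  let Ψ : MvPolynomial (Fin 2) L →ₐ[L] MvPolynomial (Fin 2) L :=
    MvPolynomial.aeval ![u - MvPolynomial.C ω * v, u - MvPolynomial.C ω' * v]
  let dh : MvPolynomial (Fin 2) L →+* LaurentPolynomial L := MvPolynomial.eval₂Hom C ![T 1, 1]
  have hdh : ∀ g, dh (Φ g) = ev ω ω' g := by
    intro g
    induction g using MvPolynomial.induction_on with
    | C a => simp [dh, Φ, ev, κ, MvPolynomial.algebraMap_eq]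
    | add p q hp hq => rw [map_add, map_add, map_add, hp, hq]
    | mul_X p i hp =>
      rw [map_mul, map_mul, map_mul, hp]
      congr 1
      fin_cases i <;> simp [dh, Φ, Φv, ev, xy, u, v]
  have hΨΦ : ∀ g, Ψ (Φ g) = MvPolynomial.map (algebraMap K L) g := by
    intro g
    induction g using MvPolynomial.induction_on with
    | C a => simp [Φ, MvPolynomial.algebraMap_eq]
    | add p q hp hq => rw [map_add, map_add, map_add, hp, hq]
    | mul_X p i hp =>
      rw [map_mul, map_mul, map_mul, hp]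
      congr 1
      have e : (MvPolynomial.C (ω' - ω) : MvPolynomial (Fin 2) L) * MvPolynomial.C (ω' - ω)⁻¹ = 1 := by
        rw [← map_mul, mul_inv_cancel₀ hδ, map_one]
      rw [map_sub] at e
      fin_cases i <;>
        simp only [Φ, Φv, Ψ, u, v, MvPolynomial.aeval_X, MvPolynomial.map_X, Fin.zero_eta, Fin.mk_one,
          Matrix.cons_val_zero, Matrix.cons_val_one, map_mul, map_sub, MvPolynomial.aeval_C,
          MvPolynomial.algebraMap_eq]
      · linear_combination (MvPolynomial.X 0) * e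
      · linear_combination (MvPolynomial.X 1) * e
  have hΦh : (Φ f).IsHomogeneous d := by
    have hh : ∀ i, (Φv i).IsHomogeneous 1 := fun i => by
      have hu : (MvPolynomial.X 0 : MvPolynomial (Fin 2) L).IsHomogeneous 1 := MvPolynomial.isHomogeneous_X _ _
      have hv : (MvPolynomial.X 1 : MvPolynomial (Fin 2) L).IsHomogeneous 1 := MvPolynomial.isHomogeneous_X _ _
      fin_cases i
      · simpa [Φv, u, v] using ((hu.C_mul ω').sub (hv.C_mul ω)).mul (MvPolynomial.isHomogeneous_C (Fin 2) (ω' - ω)⁻¹)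
      · simpa [Φv, u, v] using (hu.sub hv).mul (MvPolynomial.isHomogeneous_C (Fin 2) (ω' - ω)⁻¹)
    simpa using hf.aeval Φv hh
  have hz : Φ f = 0 := by
    have h1 : dh (Φ f) = 0 := by rw [hdh, h0]
    rw [show dh (Φ f) = MvPolynomial.eval₂ C ![T 1, 1] (Φ f) from rfl, MvPolynomial.eval₂_eq'] at h1
    ext e
    rw [MvPolynomial.coeff_zero]
    by_contra hne
    have h2 := congrArg (fun p : LaurentPolynomial L => p.coeff ((e 0 : ℕ) : ℤ)) h1
    simp only [AddMonoidAlgebra.coeff_sum, Finsupp.finsetSum_apply, Fin.prod_univ_two,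
      Matrix.cons_val_zero, Matrix.cons_val_one, one_pow, mul_one, T_pow, mul_one,
      ← single_eq_C_mul_T, AddMonoidAlgebra.coeff_single, AddMonoidAlgebra.coeff_zero, Finsupp.zero_apply] at h2
    rw [Finset.sum_eq_single e] at h2
    · simp at h2; exact hne h2
    · intro e' he' hne'
      refine Finsupp.single_eq_of_ne fun h3 => hne' ?_
      have d1 := hΦh.degree_eq_sum_deg_support he'
      have d2 := hΦh.degree_eq_sum_deg_support (MvPolynomial.mem_support_iff.mpr hne)
      have e0 : e' 0 = e 0 := by simpa using h3.symm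
      rw [← Finsupp.degree_apply, Finsupp.degree_eq_sum, Fin.sum_univ_two] at d1 d2
      ext i; fin_cases i
      · exact e0
      · show e' 1 = e 1; omega
    · intro h3; exact absurd (MvPolynomial.mem_support_iff.mpr hne) h3
  have := hΨΦ f
  rw [hz, map_zero] at this
  exact MvPolynomial.map_injective _ (algebraMap K L).injective (by rw [← this, map_zero])

theorem main (hK : ∀ n : ℕ, 0 < n → (Polynomial.X ^ n - 1 : Polynomial K).Splits)
    (σ : L →ₐ[K] L) (ω ω' : L) (β γ A : K) (hA : A ≠ 0)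
    (hω : ω * ω + algebraMap K L β * ω + algebraMap K L γ = 0)
    (hω' : ω' = -algebraMap K L β - ω) (hσ : σ ω = ω') (hne : ω ≠ ω')
    (hdec : ∀ l : L, ∃ a b : K, l = algebraMap K L a + algebraMap K L b * ω)
    (q : MvPolynomial (Fin 2) K)
    (hqe : q = MvPolynomial.C A * (MvPolynomial.X 0 ^ 2 + MvPolynomial.C β * (MvPolynomial.X 0 * MvPolynomial.X 1)
      + MvPolynomial.C γ * MvPolynomial.X 1 ^ 2))
    (hq : q.IsHomogeneous 2)
    (G : Subgroup (HomogeneousLocalization.Away (MvPolynomial.homogeneousSubmodule (Fin 2) K) q ≃+*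
      HomogeneousLocalization.Away (MvPolynomial.homogeneousSubmodule (Fin 2) K) q)) [Finite G]
    (hG : ∀ g ∈ G, ∀ (k : K) (z : HomogeneousLocalization.Away (MvPolynomial.homogeneousSubmodule (Fin 2) K) q),
      g (k • z) = k • g z) :
    (∀ g ∈ G, g ^ 2 = 1) ∧ Nat.card G ≤ 4 := by
  classical
  set 𝒜 := MvPolynomial.homogeneousSubmodule (Fin 2) K
  have hσ' : σ ω' = ω := by rw [hω', map_sub, map_neg, σ.commutes, hσ, hω']; ring
  obtain ⟨eT, e1⟩ := ev_factor (L := L) hne
  have hevq : ev ω ω' q = C (algebraMap K L A) * T 1 := by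
    have hprod : (ω * ω' : L) = algebraMap K L γ := by rw [hω']; linear_combination -hω
    have h1 : (C (algebraMap K L β) : LaurentPolynomial L) = -(C ω + C ω') := by
      rw [← map_add, ← map_neg, hω']; congr 1; ring
    have h2 : (C (algebraMap K L γ) : LaurentPolynomial L) = C ω * C ω' := by rw [← map_mul, hprod]
    have h3 : (T 1 : LaurentPolynomial L) = (xy ω ω' 0 - C ω * xy ω ω' 1) * (xy ω ω' 0 - C ω' * xy ω ω' 1) := by
      rw [eT, e1, mul_one]
    rw [hqe, h3]
    simp only [ev, map_mul, map_add, map_pow, MvPolynomial.eval₂Hom_X', MvPolynomial.eval₂Hom_C, κ,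
      RingHom.comp_apply, h1, h2]
    ring
  have hu : IsUnit (ev ω ω' q) := by
    rw [hevq]
    exact ((isUnit_iff_ne_zero.mpr ((map_ne_zero _).mpr hA)).map C).mul (isUnit_T 1)
  let lft : Localization.Away q →+* LaurentPolynomial L := IsLocalization.Away.lift q hu
  have hlft : ∀ f, lft (algebraMap _ _ f) = ev ω ω' f := fun f => IsLocalization.Away.lift_eq q hu f
  let φ : HomogeneousLocalization.Away 𝒜 q →+* LaurentPolynomial L :=
    lft.comp (algebraMap (HomogeneousLocalization.Away 𝒜 q) (Localization.Away q))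
  have hφk : ∀ (k : K) z, φ (k • z) = C (algebraMap K L k) * φ z := by
    intro k z
    show lft ((k • z).val) = _ * lft z.val
    rw [HomogeneousLocalization.val_smul, Algebra.smul_def, map_mul,
      IsScalarTower.algebraMap_apply K (MvPolynomial (Fin 2) K) (Localization.Away q), hlft]
    simp [ev, κ, MvPolynomial.algebraMap_eq]
  have hφmk : ∀ (n : ℕ) (f : MvPolynomial (Fin 2) K) (hf : f ∈ 𝒜 (n • 2)),
      φ (HomogeneousLocalization.Away.mk 𝒜 hq n f hf) * ev ω ω' q ^ n = ev ω ω' f := by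
    intro n f hf
    show lft (HomogeneousLocalization.Away.mk 𝒜 hq n f hf).val * _ = _
    rw [HomogeneousLocalization.Away.val_mk, ← map_pow, ← hlft, ← hlft, ← map_mul]
    congr 1
    rw [Localization.mk_eq_mk']
    exact IsLocalization.mk'_spec_mk _ _ _ _
  have hconjφ : ∀ z, conj σ (φ z) = φ z := by
    intro z
    obtain ⟨n, f, hf, rfl⟩ := HomogeneousLocalization.Away.mk_surjective 𝒜 hq z
    have h := hφmk n f hf
    apply (hu.pow n).mul_right_cancel
    rw [h]
    have h2 := congrArg (conj σ) h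
    rw [map_mul, map_pow, conj_ev hσ hσ' hq, conj_ev hσ hσ' hf, mul_pow, T_pow] at h2
    have hT : (T (-(((n • 2 : ℕ) : ℤ))) : LaurentPolynomial L) = T ((n : ℤ) * -((2 : ℕ) : ℤ)) := by
      congr 1
    rw [hT] at h2
    refine (isUnit_T ((n : ℤ) * -((2 : ℕ) : ℤ))).mul_left_cancel ?_
    rw [← h2]; ring
  have hφinj : Function.Injective φ := by
    rw [injective_iff_map_eq_zero]
    intro z hz
    obtain ⟨n, f, hf, rfl⟩ := HomogeneousLocalization.Away.mk_surjective 𝒜 hq z
    have h := hφmk n f hf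
    rw [hz, zero_mul] at h
    have := eq_zero_of_ev hne hf h.symm
    apply HomogeneousLocalization.val_injective
    rw [HomogeneousLocalization.Away.val_mk, HomogeneousLocalization.val_zero, this, Localization.mk_zero]
  let Z := HomogeneousLocalization.Away 𝒜 q
  let E : Z × Z → LaurentPolynomial L := fun p => φ p.1 + C ω * φ p.2
  have hEadd : ∀ p p', E (p + p') = E p + E p' := by
    intro p p'; simp only [E, Prod.fst_add, Prod.snd_add, map_add]; ring
  have hωC : C ω * C ω = -(C (algebraMap K L β) * C ω) - (C (algebraMap K L γ) : LaurentPolynomial L) := by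
    rw [← map_mul, ← map_mul, ← map_neg, ← map_sub]; congr 1; linear_combination hω
  have hEinj : Function.Injective E := by
    intro p p' h
    have h2 := congrArg (conj σ) h
    simp only [E, map_add, map_mul, conj_C, hσ, hconjφ] at h2
    simp only [E] at h
    have hd : (C (ω - ω') : LaurentPolynomial L) * (φ p.2 - φ p'.2) = 0 := by
      rw [map_sub]; linear_combination h - h2
    have hu2 : IsUnit (C (ω - ω') : LaurentPolynomial L) := (isUnit_iff_ne_zero.mpr (sub_ne_zero.mpr hne)).map C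
    have e2 : φ p.2 = φ p'.2 := sub_eq_zero.mp (hu2.mul_right_eq_zero.mp hd)
    have e1 : φ p.1 = φ p'.1 := by rw [e2] at h; exact add_right_cancel h
    exact Prod.ext (hφinj e1) (hφinj e2)
  -- the image is stable under products and constants
  have hEmul : ∀ p p', ∃ p'', E p'' = E p * E p' := fun p p' =>
    ⟨(p.1 * p'.1 - γ • (p.2 * p'.2), p.1 * p'.2 + p.2 * p'.1 - β • (p.2 * p'.2)), by
      simp only [E, map_sub, map_add, map_mul, hφk]
      linear_combination (-(φ p.2 * φ p'.2)) * hωC⟩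
  have hEC : ∀ l, ∃ p, E p = C l := by
    intro l
    obtain ⟨a, b, rfl⟩ := hdec l
    exact ⟨(a • 1, b • 1), by simp only [E, hφk, map_one, mul_one, map_add, map_mul]; ring⟩
  have hlin : ∀ (θ : L), ∃ p, E p * (C (algebraMap K L A) * T 1) =
      (xy ω ω' 0 - C θ * xy ω ω' 1) ^ 2 * C (algebraMap K L A) := by
    intro θ
    have hX : ∀ i j : Fin 2, MvPolynomial.C A * (MvPolynomial.X i * MvPolynomial.X j) ∈ 𝒜 (1 • 2) := fun i j => by
      rw [MvPolynomial.mem_homogeneousSubmodule]
      simpa using ((MvPolynomial.isHomogeneous_X K i).mul (MvPolynomial.isHomogeneous_X K j)).C_mul A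
    let z : Fin 2 → Fin 2 → Z := fun i j => HomogeneousLocalization.Away.mk 𝒜 hq 1 _ (hX i j)
    have hz : ∀ i j, φ (z i j) * (C (algebraMap K L A) * T 1) = C (algebraMap K L A) * (xy ω ω' i * xy ω ω' j) := by
      intro i j
      have := hφmk 1 _ (hX i j)
      rw [pow_one, hevq] at this
      rw [this]
      simp [ev, κ]
    obtain ⟨p₁, h₁⟩ := hEC (-(2 * θ))
    obtain ⟨p₂, h₂⟩ := hEC (θ ^ 2)
    obtain ⟨p₃, h₃⟩ := hEmul p₁ (z 0 1, 0)
    obtain ⟨p₄, h₄⟩ := hEmul p₂ (z 1 1, 0)
    refine ⟨(z 0 0, 0) + p₃ + p₄, ?_⟩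
    rw [hEadd, hEadd, h₃, h₄, h₁, h₂]
    simp only [E, map_zero, mul_zero, add_zero, add_mul, mul_assoc, hz, map_neg, map_mul, map_pow, map_ofNat]
    ring
  have hEsurj : Function.Surjective E := by
    have hT1 : ∃ p, E p = T 1 := by
      obtain ⟨p, hp⟩ := hlin ω
      refine ⟨p, (hevq ▸ hu).mul_right_cancel ?_⟩
      rw [hp, eT]; ring
    have hTm : ∃ p, E p = T (-1) := by
      obtain ⟨p, hp⟩ := hlin ω'
      refine ⟨p, (hevq ▸ hu).mul_right_cancel ?_⟩
      have hT : (T (-1) : LaurentPolynomial L) * T 1 = 1 := by rw [← T_add, neg_add_cancel, T_zero]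
      rw [hp, e1]; linear_combination (-(C (algebraMap K L A))) * hT
    intro w
    induction w using LaurentPolynomial.induction_on with
    | h_C a => exact hEC a
    | h_add hp hq =>
      obtain ⟨p, rfl⟩ := hp; obtain ⟨p', rfl⟩ := hq
      exact ⟨p + p', hEadd p p'⟩
    | h_C_mul_T n a h =>
      obtain ⟨p, hp⟩ := h; obtain ⟨p', hp'⟩ := hT1
      obtain ⟨p'', h''⟩ := hEmul p p'
      exact ⟨p'', by rw [h'', hp, hp', mul_assoc, ← T_add]⟩
    | h_C_mul_T_Z n a h =>
      obtain ⟨p, hp⟩ := h; obtain ⟨p', hp'⟩ := hTm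
      obtain ⟨p'', h''⟩ := hEmul p p'
      exact ⟨p'', by rw [h'', hp, hp', mul_assoc, ← T_add, ← sub_eq_add_neg]⟩
  let Ee : Z × Z ≃ LaurentPolynomial L := Equiv.ofBijective E ⟨hEinj, hEsurj⟩
  -- the `L`-linear extension of an automorphism
  let ext' : G → LaurentPolynomial L → LaurentPolynomial L := fun g w =>
    E ((g : Z ≃+* Z) (Ee.symm w).1, (g : Z ≃+* Z) (Ee.symm w).2)
  have hext : ∀ (g : G) p, ext' g (E p) = E ((g : Z ≃+* Z) p.1, (g : Z ≃+* Z) p.2) := by
    intro g p
    show E _ = _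
    rw [show E p = Ee p from rfl, Equiv.symm_apply_apply]
  have hgk : ∀ (g : G) (k : K) (z : Z), (g : Z ≃+* Z) (k • z) = k • (g : Z ≃+* Z) z := fun g => hG g g.2
  have hext_add : ∀ g x y, ext' g (x + y) = ext' g x + ext' g y := by
    intro g x y
    obtain ⟨p, rfl⟩ := hEsurj x; obtain ⟨p', rfl⟩ := hEsurj y
    rw [← hEadd, hext, hext, hext, ← hEadd]
    simp
  have hext_mul : ∀ g x y, ext' g (x * y) = ext' g x * ext' g y := by
    intro g x y
    obtain ⟨p, rfl⟩ := hEsurj x; obtain ⟨p', rfl⟩ := hEsurj y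
    have e : E (p.1 * p'.1 - γ • (p.2 * p'.2), p.1 * p'.2 + p.2 * p'.1 - β • (p.2 * p'.2)) = E p * E p' := by
      simp only [E, map_sub, map_add, map_mul, hφk]
      linear_combination (-(φ p.2 * φ p'.2)) * hωC
    rw [← e, hext, hext, hext]
    simp only [map_sub, map_add, map_mul, hgk]
    simp only [E, map_sub, map_add, map_mul, hφk]
    linear_combination (-(φ ((g : Z ≃+* Z) p.2) * φ ((g : Z ≃+* Z) p'.2))) * hωC
  have hext_C : ∀ g l, ext' g (C l) = C l := by
    intro g l
    obtain ⟨a, b, rfl⟩ := hdec l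
    have e : E (a • 1, b • 1) = C (algebraMap K L a + algebraMap K L b * ω) := by
      simp only [E, hφk, map_one, mul_one, map_add, map_mul]; ring
    rw [← e, hext]
    simp only [hgk, map_one]
  have hext_comp : ∀ g h : G, ∀ x, ext' (g * h) x = ext' g (ext' h x) := by
    intro g h x
    obtain ⟨p, rfl⟩ := hEsurj x
    rw [hext (g * h), hext h, hext g]
    rfl
  have hext_one : ∀ x, ext' 1 x = x := by
    intro x
    obtain ⟨p, rfl⟩ := hEsurj x
    rw [hext]; rfl
  have hext_conj : ∀ g x, conj σ (ext' g x) = ext' g (conj σ x) := by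
    intro g x
    obtain ⟨p, rfl⟩ := hEsurj x
    obtain ⟨pω, hpω⟩ := hEC ω'
    have : conj σ (E p) = E (p.1, 0) + C ω' * E (p.2, 0) := by
      simp only [E, map_add, map_mul, conj_C, hσ, hconjφ, map_zero, mul_zero, add_zero]
    rw [this, hext g p, hext_add, hext_mul, hext_C, hext, hext]
    simp only [E, map_add, map_mul, conj_C, hσ, hconjφ, map_zero, mul_zero, add_zero]
  let R : G → (LaurentPolynomial L →+* LaurentPolynomial L) := fun g =>
    { toFun := ext' g
      map_one' := by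
        have := hext_C g 1
        rwa [map_one] at this
      map_mul' := hext_mul g
      map_zero' := by
        have := hext_C g 0
        rwa [map_zero] at this
      map_add' := hext_add g }
  have hR : ∀ g x, R g x = ext' g x := fun _ _ => rfl
  have hinv : ∀ g x, ext' g⁻¹ (ext' g x) = x := by
    intro g x; rw [← hext_comp, inv_mul_cancel, hext_one]
  have hform : ∀ g, ∃ (c : L) (n : ℤ), c ≠ 0 ∧ ext' g (T 1) = C c * T n := fun g =>
    exists_eq_C_mul_T_of_isUnit ((isUnit_T 1).map (R g))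
  have hzpow : ∀ g (n : ℤ) (c : L) (m : ℤ), c ≠ 0 → ext' g (T 1) = C c * T m →
      ∃ d : L, d ≠ 0 ∧ ext' g (T n) = C d * T (m * n) := by
    intro g n c m hc hg
    induction n with
    | zero => exact ⟨1, one_ne_zero, by rw [mul_zero, T_zero, map_one, mul_one]; exact (R g).map_one⟩
    | succ k ih =>
      obtain ⟨d, hd, ih⟩ := ih
      refine ⟨d * c, mul_ne_zero hd hc, ?_⟩
      rw [T_add, hext_mul, ih, hg, map_mul, mul_add, mul_one, T_add]; ring
    | pred k ih =>
      obtain ⟨d, hd, ih⟩ := ih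
      refine ⟨d * c⁻¹, mul_ne_zero hd (inv_ne_zero hc), ?_⟩
      have hTT : (T (-(k : ℤ) - 1) : LaurentPolynomial L) * T 1 = T (-(k : ℤ)) := by
        rw [← T_add, sub_add_cancel]
      have h1 := hext_mul g (T (-(k : ℤ) - 1)) (T 1)
      rw [hTT, ih, hg] at h1
      have hcc : (C c : LaurentPolynomial L) * C c⁻¹ = 1 := by rw [← map_mul, mul_inv_cancel₀ hc, map_one]
      have hTm : (T m : LaurentPolynomial L) * T (-m) = 1 := by rw [← T_add, add_neg_cancel, T_zero]
      calc ext' g (T (-(k : ℤ) - 1)) = ext' g (T (-(k : ℤ) - 1)) * (C c * T m) * (C c⁻¹ * T (-m)) := by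
            linear_combination (-(ext' g (T (-(k : ℤ) - 1))) * (T m * T (-m))) * hcc - ext' g (T (-(k : ℤ) - 1)) * hTm
        _ = C d * T (m * -(k : ℤ)) * (C c⁻¹ * T (-m)) := by rw [h1]
        _ = C (d * c⁻¹) * T (m * (-(k : ℤ) - 1)) := by
            rw [map_mul, mul_sub, mul_one, sub_eq_add_neg, T_add]; ring
  have hpm : ∀ g, ∃ c : L, c ≠ 0 ∧ (ext' g (T 1) = C c * T 1 ∨ ext' g (T 1) = C c * T (-1)) := by
    intro g
    obtain ⟨c, n, hc, h⟩ := hform g
    obtain ⟨c', n', hc', h'⟩ := hform g⁻¹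
    obtain ⟨d, hd, h''⟩ := hzpow g⁻¹ n c' n' hc' h'
    have e := hinv g (T 1)
    rw [h, hext_mul, hext_C, h'', ← mul_assoc, ← map_mul] at e
    obtain ⟨e1, -⟩ := C_mul_T_inj (mul_ne_zero hc hd) (e.trans (by rw [map_one, one_mul] : (T 1 : LaurentPolynomial L) = C 1 * T 1))
    refine ⟨c, hc, ?_⟩
    rcases Int.eq_one_or_neg_one_of_mul_eq_one' e1 with ⟨-, hn⟩ | ⟨-, hn⟩
    · exact Or.inl (hn ▸ h)
    · exact Or.inr (hn ▸ h)
  have hneT : ∀ c : L, c ≠ 0 → ∀ d : L, (C c * T 1 : LaurentPolynomial L) ≠ C d * T (-1) := fun c hc d h => by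
    have := (C_mul_T_inj hc h).1; omega
  have hone : ∀ g c, ext' g (T 1) = C c * T 1 → c ≠ 0 → c = 1 ∨ c = -1 := by
    intro g c h hc
    have hk : ∀ k : ℕ, ext' (g ^ k) (T 1) = C (c ^ k) * T 1 := by
      intro k
      induction k with
      | zero => rw [pow_zero, pow_zero, map_one, one_mul, hext_one]
      | succ k ih =>
        rw [pow_succ, hext_comp, h, hext_mul, hext_C, ih, pow_succ, map_mul]; ring
    have ho := hk (orderOf g)
    rw [pow_orderOf_eq_one, hext_one] at ho
    have hc1 : c ^ orderOf g = 1 :=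
      ((C_mul_T_inj one_ne_zero ((by rw [map_one, one_mul] : (C 1 * T 1 : LaurentPolynomial L) = T 1).trans ho)).2).symm
    have hpos : 0 < orderOf g := orderOf_pos g
    obtain ⟨ζ, rfl⟩ : c ∈ (algebraMap K L).range := by
      have hne' : (Polynomial.X ^ orderOf g - 1 : Polynomial K) ≠ 0 := (Polynomial.monic_X_pow_sub_C (1 : K) hpos.ne').ne_zero
      have h1 : c ∈ ((Polynomial.X ^ orderOf g - 1 : Polynomial K).map (algebraMap K L)).roots := by
        rw [Polynomial.mem_roots (Polynomial.map_ne_zero hne')]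
        simp [Polynomial.IsRoot, hc1]
      rw [(hK _ hpos).roots_map] at h1
      obtain ⟨z, -, rfl⟩ := Multiset.mem_map.mp h1
      exact ⟨z, rfl⟩
    obtain ⟨d, hd, hm⟩ := hzpow g (-1) _ 1 hc h
    have e := hext_conj g (T 1)
    rw [h, map_mul, conj_C, conj_T, σ.commutes, hm, one_mul] at e
    have e2 := hext_mul g (T 1) (T (-1))
    rw [← T_add, add_neg_cancel, T_zero, h, hm, one_mul] at e2
    rw [show ext' g 1 = 1 from (R g).map_one] at e2
    have hd2 : d = algebraMap K L ζ := ((C_mul_T_inj hc e).2).symm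
    rw [mul_mul_mul_comm, ← map_mul, ← T_add, add_neg_cancel] at e2
    have := (C_mul_T_inj one_ne_zero ((by rw [map_one, T_zero, one_mul] : (C 1 * T 0 : LaurentPolynomial L) = 1).trans e2)).2
    rw [hd2, eq_comm] at this
    exact mul_self_eq_one_iff.mp this
  have hdet : ∀ g h : G, ext' g (T 1) = ext' h (T 1) → g = h := by
    intro g h hgh
    have hall : ∀ x, ext' g x = ext' h x := by
      intro x
      have hT : ext' g (T (-1)) = ext' h (T (-1)) := by
        apply ((isUnit_T 1).map (R g)).mul_left_cancel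
        rw [hR]
        conv_rhs => rw [hgh]
        rw [← hext_mul, ← hext_mul, ← T_add, add_neg_cancel, T_zero]
        rw [show ext' g 1 = 1 from (R g).map_one, show ext' h 1 = 1 from (R h).map_one]
      induction x using LaurentPolynomial.induction_on with
      | h_C a => rw [hext_C, hext_C]
      | h_add hp hq => rw [hext_add, hext_add, hp, hq]
      | h_C_mul_T n a ih => rw [T_add, ← mul_assoc, hext_mul g _ (T 1), hext_mul h _ (T 1), ih, hgh]
      | h_C_mul_T_Z n a ih => rw [sub_eq_add_neg, T_add, ← mul_assoc, hext_mul g _ (T (-1)), hext_mul h _ (T (-1)), ih, hT]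
    apply Subtype.ext
    apply RingEquiv.ext
    intro z
    have := hall (E (z, 0))
    rw [hext, hext] at this
    exact congrArg Prod.fst (hEinj this)
  have hsq : ∀ g : G, g ^ 2 = 1 := by
    intro g
    apply hdet
    rw [hext_one, pow_two, hext_comp]
    obtain ⟨c, hc, h | h⟩ := hpm g
    · rw [h, hext_mul, hext_C, h]
      rcases hone g c h hc with rfl | rfl
      · simp
      · rw [← mul_assoc, ← map_mul]; simp
    · have h1 : ext' g (T (-1)) * ext' g (T 1) = 1 := by
        rw [← hext_mul, ← T_add, neg_add_cancel, T_zero]; exact (R g).map_one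
      rw [h, hext_mul, hext_C]
      rw [h] at h1
      have hTm : (T (-1) : LaurentPolynomial L) * T 1 = 1 := by rw [← T_add, neg_add_cancel, T_zero]
      linear_combination (-(C c * ext' g (T (-1)))) * hTm + (T 1) * h1
  refine ⟨fun g hg => congrArg Subtype.val (hsq ⟨g, hg⟩), ?_⟩
  haveI : Fintype G := Fintype.ofFinite G
  let rot : Finset G := Finset.univ.filter fun g => ∃ c, c ≠ 0 ∧ ext' g (T 1) = C c * T 1
  have hrot : rot.card ≤ 2 := by
    refine le_trans (Finset.card_le_card_of_injOn (fun g => ext' g (T 1))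
      (t := ({C 1 * T 1, C (-1) * T 1} : Finset (LaurentPolynomial L))) ?_ ?_) ?_
    · intro g hg
      obtain ⟨c, hc, h⟩ := (Finset.mem_filter.mp hg).2
      show ext' g (T 1) ∈ (_ : Finset _)
      rw [h]
      rcases hone g c h hc with rfl | rfl <;> simp
    · intro g _ g' _ h; exact hdet g g' h
    · exact Finset.card_le_two
  have hrefl : rotᶜ.card ≤ 2 := by
    rcases rotᶜ.eq_empty_or_nonempty with h | ⟨g₀, hg₀⟩
    · simp [h]
    refine le_trans (Finset.card_le_card_of_injOn (fun g => g₀ * g) ?_ ?_) hrot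
    · intro g hg
      have hr : ∀ g ∈ rotᶜ, ∃ c, c ≠ 0 ∧ ext' g (T 1) = C c * T (-1) := by
        intro g hg
        obtain ⟨c, hc, h | h⟩ := hpm g
        · exact absurd (Finset.mem_filter.mpr ⟨Finset.mem_univ _, c, hc, h⟩) (Finset.mem_compl.mp hg)
        · exact ⟨c, hc, h⟩
      obtain ⟨c, hc, h⟩ := hr g hg
      obtain ⟨c₀, hc₀, h₀⟩ := hr g₀ hg₀
      obtain ⟨d, hd, hm⟩ := hzpow g₀ (-1) c₀ (-1) hc₀ h₀
      refine Finset.mem_filter.mpr ⟨Finset.mem_univ _, c * d, mul_ne_zero hc hd, ?_⟩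
      rw [hext_comp, h, hext_mul, hext_C, hm, ← mul_assoc, ← map_mul]
      norm_num
    · intro a _ b _ h; exact mul_left_cancel h
  rw [Nat.card_eq_fintype_card, ← Finset.card_add_card_compl rot]
  omega

end data

end Groth.Agent.H26Misc.ConicAut
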