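import Mathlib.LinearAlgebra.Matrix.ToLin
import Mathlib.LinearAlgebra.Matrix.Adjugate
import Mathlib.LinearAlgebra.AnnihilatingPolynomial
import Mathlib.LinearAlgebra.Matrix.Charpoly.Minpoly
import Mathlib.Algebra.Module.PID
import Mathlib.Algebra.Polynomial.Module.AEval
import Mathlib.RingTheory.Polynomial.Basic
import Mathlib.RingTheory.LocalRing.ResidueField.Ideal
import Mathlib.LinearAlgebra.Dual.Lemmas
import Mathlib.LinearAlgebra.Matrix.ToLinearEquiv
import Mathlib.LinearAlgebra.Basis.VectorSpace

/-!
# Fibrewise regular matrices are locally cyclic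

A matrix whose commutant has dimension at most `n` at every point has commutant freely spanned by
its powers `1, g, …, g^(n-1)`.
-/

set_option autoImplicit false
universe u v

open Polynomial

namespace Groth.Agent.H26Misc.Cyclic

section Field

variable {K : Type u} [Field K] {V : Type v} [AddCommGroup V] [Module K V] [FiniteDimensional K V]

theorem exists_vector_minpoly (f : Module.End K V) :
    ∃ v : V, ∀ p : K[X], aeval f p v = 0 → minpoly K f ∣ p := by
  obtain ⟨x, hx⟩ := Module.exists_ker_toSpanSingleton_eq_annihilator K[X] (Module.AEval' f)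
  refine ⟨(Module.AEval'.of f).symm x, fun p hp => ?_⟩
  have h : p • x = 0 := (Module.AEval'.of f).symm.injective (by
    rw [map_zero, Module.AEval.of_symm_smul]; exact hp)
  have h' : p ∈ Module.annihilator K[X] (Module.AEval' f) := hx ▸ h
  rwa [← span_minpoly_eq_annihilator, Ideal.mem_span_singleton] at h'

/-- If the commutant of `f` has dimension at most `dim V`, some vector generates `V` under `f`. -/
theorem exists_cyclic_vector (f : Module.End K V)
    (h : Module.finrank K (Subalgebra.centralizer K ({f} : Set (Module.End K V))) ≤ Module.finrank K V) :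
    ∃ v : V, Submodule.span K (Set.range fun i : Fin (Module.finrank K V) => (f ^ (i : ℕ)) v) = ⊤ := by
  classical
  obtain ⟨v, hv⟩ := exists_vector_minpoly f
  obtain ⟨d, hd⟩ : ∃ d, (minpoly K f).natDegree = d := ⟨_, rfl⟩
  have hmon : (minpoly K f).Monic := minpoly.monic (Algebra.IsIntegral.isIntegral f)
  have hn0 : minpoly K f ≠ 0 := hmon.ne_zero
  have hdegμ : (minpoly K f).degree = d := by rw [degree_eq_natDegree hn0, hd]
  have hindep : LinearIndependent K (fun i : Fin d => (f ^ (i : ℕ)) v) := by
    rw [Fintype.linearIndependent_iff]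
    intro c hc i
    have hdeg : (∑ j : Fin d, C (c j) * X ^ (j : ℕ)).degree < (minpoly K f).degree := by
      rw [hdegμ]
      exact degree_sum_fin_lt c
    have h0 : (∑ j : Fin d, C (c j) * X ^ (j : ℕ)) = 0 := by
      refine eq_zero_of_dvd_of_degree_lt (hv _ ?_) hdeg
      rw [← hc]
      simp [map_sum, LinearMap.sum_apply, ← Algebra.smul_def]
    have := congrArg (fun p : K[X] => p.coeff i) h0
    simpa [finsetSum_coeff, coeff_C_mul, coeff_X_pow, Fin.val_inj] using this
  obtain ⟨φ, hφ⟩ : ∃ φ : V →ₗ[K] K, ∀ i : Fin d, φ ((f ^ (i : ℕ)) v) = if (i : ℕ) + 1 = d then 1 else 0 := by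
    obtain ⟨φ, hφ⟩ := ((Module.Basis.span hindep).constr K
      (fun i : Fin d => if (i : ℕ) + 1 = d then (1 : K) else 0)).exists_extend
    refine ⟨φ, fun i => ?_⟩
    have := congrArg (fun g => g ((Module.Basis.span hindep) i)) hφ
    simp only [LinearMap.comp_apply, Module.Basis.constr_basis, Submodule.subtype_apply] at this
    rwa [Module.Basis.span_apply] at this
  have hφ' : ∀ j, j + 1 < d → φ ((f ^ j) v) = 0 := fun j hj => by
    rw [hφ ⟨j, by omega⟩, if_neg (by simp; omega)]
  set E : V →ₗ[K] (Fin d → K) := LinearMap.pi fun i : Fin d => φ.comp (f ^ (i : ℕ)) with hE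
  have hEapply : ∀ y i, E y i = φ ((f ^ (i : ℕ)) y) := fun y i => rfl
  set L : Polynomial.degreeLT K d →ₗ[K] V :=
    ((LinearMap.applyₗ v).comp (Polynomial.aeval f).toLinearMap).comp (Polynomial.degreeLT K d).subtype with hL
  have hinv : ∀ y, E y = 0 → E (f y) = 0 := by
    intro y hy
    funext i
    rw [hEapply, ← Module.End.mul_apply, ← pow_succ]
    by_cases hi : (i : ℕ) + 1 < d
    · exact congrFun hy ⟨(i : ℕ) + 1, hi⟩
    · have hid : (i : ℕ) + 1 = d := by omega
      have hμ := congrArg (fun g : Module.End K V => φ (g y)) (minpoly.aeval K f)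
      simp only [aeval_eq_sum_range, LinearMap.sum_apply, map_sum, LinearMap.smul_apply, map_smul,
        LinearMap.zero_apply, map_zero, hd] at hμ
      rw [Finset.sum_range_succ, Finset.sum_eq_zero (s := Finset.range d), zero_add] at hμ
      · rw [← hd, hmon.coeff_natDegree, one_smul, hd] at hμ
        rw [hid]
        exact hμ
      · intro j hj
        have := congrFun hy ⟨j, Finset.mem_range.1 hj⟩
        rw [hEapply] at this
        simp only [Pi.zero_apply] at this
        rw [this, smul_zero]
  have hEL : Function.Injective (E.comp L) := by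
    rw [injective_iff_map_eq_zero]
    intro p hp
    refine Subtype.ext ?_
    by_contra hp0
    have hp0' : (p : K[X]) ≠ 0 := hp0
    set j := (p : K[X]).natDegree with hj
    have hjd : j < d := by
      have := Polynomial.mem_degreeLT.1 p.2
      rw [degree_eq_natDegree hp0'] at this
      exact_mod_cast this
    have h1 := congrFun hp ⟨d - 1 - j, by omega⟩
    simp only [LinearMap.comp_apply, hEapply, hL, Pi.zero_apply, LinearMap.applyₗ_apply_apply,
      Submodule.subtype_apply, AlgHom.toLinearMap_apply, aeval_eq_sum_range, LinearMap.sum_apply,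
      LinearMap.smul_apply, map_sum, map_smul, ← Module.End.mul_apply, ← pow_add] at h1
    rw [← hj, Finset.sum_range_succ, Finset.sum_eq_zero (s := Finset.range j), zero_add,
      hφ ⟨d - 1 - j + j, by omega⟩, if_pos (by simp; omega), smul_eq_mul, mul_one] at h1
    · exact hp0' (leadingCoeff_eq_zero.1 h1)
    · intro i hi
      rw [Finset.mem_range] at hi
      rw [hφ' _ (by omega), smul_zero]
  have hfr : Module.finrank K (Polynomial.degreeLT K d) = Module.finrank K (Fin d → K) :=
    (Polynomial.degreeLTEquiv K d).finrank_eq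
  have : FiniteDimensional K (Polynomial.degreeLT K d) := (Polynomial.degreeLTEquiv K d).symm.finiteDimensional
  set e := LinearEquiv.ofBijective (E.comp L)
    ⟨hEL, (LinearMap.injective_iff_surjective_of_finrank_eq_finrank hfr).1 hEL⟩ with he
  set R : V →ₗ[K] Polynomial.degreeLT K d := e.symm.toLinearMap.comp E with hR
  have hRL : ∀ p, R (L p) = p := fun p => e.symm_apply_apply p
  have hRq : ∀ q : K[X], (R (aeval f q v) : K[X]) = q %ₘ minpoly K f := by
    intro q
    have hdeg : q %ₘ minpoly K f ∈ Polynomial.degreeLT K d := by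
      rw [Polynomial.mem_degreeLT, ← hdegμ]
      exact degree_modByMonic_lt _ hmon
    have : aeval f q v = L ⟨_, hdeg⟩ := by
      simp only [hL, LinearMap.comp_apply, LinearMap.applyₗ_apply_apply, Submodule.subtype_apply,
        AlgHom.toLinearMap_apply]
      rw [aeval_modByMonic_eq_self_of_root (minpoly.aeval K f)]
    rw [this, hRL]
  have hER : ∀ y, E (y - L (R y)) = 0 := fun y => by
    rw [map_sub, sub_eq_zero]
    exact (e.apply_symm_apply (E y)).symm
  set H : V →ₗ[K] V →ₗ[K] V :=
    { toFun := fun x => ((LinearMap.applyₗ x).comp (Polynomial.aeval f).toLinearMap).comp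
        ((Polynomial.degreeLT K d).subtype.comp R)
      map_add' := fun x y => by ext z; simp
      map_smul' := fun c x => by ext z; simp } with hH
  have hHapply : ∀ x y, H x y = aeval f (R y : K[X]) x := fun x y => rfl
  have hHf : ∀ x y, H x (f y) = f (H x y) := by
    intro x y
    have h1 : R (f y) = R (aeval f (X * (R y : K[X])) v) := by
      have hu := hinv _ (hER y)
      have hR0 : R (f (y - L (R y))) = 0 := by
        simp only [hR, LinearMap.comp_apply] at hu ⊢
        rw [hu, map_zero]
      rw [map_sub, map_sub, sub_eq_zero] at hR0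
      rw [hR0, map_mul, aeval_X, Module.End.mul_apply]
      rfl
    rw [hHapply, hHapply, h1, hRq, aeval_modByMonic_eq_self_of_root (minpoly.aeval K f), map_mul,
      aeval_X, Module.End.mul_apply]
  have hRv : ∀ x, 0 < d → H x v = x := fun x hd0 => by
    have h1 := hRq 1
    rw [map_one, Module.End.one_apply] at h1
    rw [hHapply, h1, aeval_modByMonic_eq_self_of_root (minpoly.aeval K f), map_one, Module.End.one_apply]
  have hd0 : ∀ y : V, y ≠ 0 → 0 < d := fun y hy => by
    have : Nontrivial V := ⟨⟨y, 0, hy⟩⟩
    rw [← hd]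
    exact minpoly.natDegree_pos (Algebra.IsIntegral.isIntegral f)
  by_cases hEinj : Function.Injective E
  · refine ⟨v, ?_⟩
    rw [eq_top_iff]
    rintro y -
    have hy : y = L (R y) := hEinj (by
      have := hER y
      rwa [map_sub, sub_eq_zero] at this)
    rw [hy]
    show aeval f ((R y) : K[X]) v ∈ _
    rw [aeval_eq_sum_range, LinearMap.sum_apply]
    refine Submodule.sum_mem _ fun i hi => ?_
    rw [LinearMap.smul_apply]
    by_cases hi0 : ((R y : Polynomial.degreeLT K d) : K[X]).coeff i = 0
    · rw [hi0, zero_smul]; exact Submodule.zero_mem _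
    have hid : i < d := by
      by_contra hcon
      refine hi0 (coeff_eq_zero_of_degree_lt (lt_of_lt_of_le (Polynomial.mem_degreeLT.1 (R y).2) ?_))
      exact_mod_cast (not_lt.1 hcon)
    have hdn : d ≤ Module.finrank K V := by
      have := hindep.fintype_card_le_finrank
      rwa [Fintype.card_fin] at this
    exact Submodule.smul_mem _ _ (Submodule.subset_span ⟨⟨i, lt_of_lt_of_le hid hdn⟩, rfl⟩)
  · exfalso
    rw [injective_iff_map_eq_zero] at hEinj
    push Not at hEinj
    obtain ⟨u, hu, hu0⟩ := hEinj
    have hdpos := hd0 u hu0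
    have hmem : ∀ x : V × K,
        H x.1 + x.2 • (LinearMap.id - H v) ∈ Subalgebra.centralizer K ({f} : Set (Module.End K V)) := by
      intro x
      rw [Subalgebra.mem_centralizer_iff]
      intro g hg
      rw [Set.mem_singleton_iff.1 hg]
      refine LinearMap.ext fun y => ?_
      simp only [Module.End.mul_apply, LinearMap.add_apply, LinearMap.smul_apply, LinearMap.sub_apply,
        LinearMap.id_apply, map_add, map_smul, map_sub, hHf]
    let Φ : V × K →ₗ[K] Subalgebra.centralizer K ({f} : Set (Module.End K V)) :=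
      { toFun := fun x => ⟨_, hmem x⟩
        map_add' := fun x y => Subtype.ext (by simp [add_smul]; abel)
        map_smul' := fun c x => Subtype.ext (by simp [smul_add, mul_smul]) }
    have hΦ : Function.Injective Φ := by
      rw [injective_iff_map_eq_zero]
      rintro ⟨x, c⟩ hx
      have hx' : H x + c • (LinearMap.id - H v) = 0 := congrArg Subtype.val hx
      have h1 := congrArg (fun g : V →ₗ[K] V => g v) hx'
      simp only [LinearMap.add_apply, LinearMap.smul_apply, LinearMap.sub_apply, LinearMap.id_apply,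
        hRv _ hdpos, sub_self, smul_zero, add_zero, LinearMap.zero_apply] at h1
      subst h1
      have h2 := congrArg (fun g : V →ₗ[K] V => g u) hx'
      have hRu : R u = 0 := by rw [hR, LinearMap.comp_apply, hu, map_zero]
      simp only [LinearMap.add_apply, LinearMap.smul_apply, LinearMap.sub_apply, LinearMap.id_apply,
        hHapply, hRu, ZeroMemClass.coe_zero, map_zero, LinearMap.zero_apply, sub_zero, zero_add] at h2
      rw [(smul_eq_zero.1 h2).resolve_right hu0]
      rfl
    have h3 := LinearMap.finrank_le_finrank_of_injective hΦ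
    rw [Module.finrank_prod, Module.finrank_self] at h3
    omega

end Field

section Ring

variable {n : ℕ} {B : Type u} [CommRing B]

/-- The matrix with columns `g^j v`. -/
def krylov (g : Matrix (Fin n) (Fin n) B) (v : Fin n → B) : Matrix (Fin n) (Fin n) B :=
  Matrix.of fun i j => ((g ^ (j : ℕ)).mulVec v) i

theorem krylov_mulVec (g : Matrix (Fin n) (Fin n) B) (v c : Fin n → B) :
    (krylov g v).mulVec c = (∑ j : Fin n, c j • g ^ (j : ℕ)).mulVec v := by
  funext i
  rw [Matrix.sum_mulVec, Finset.sum_apply]
  simp only [Matrix.smul_mulVec, Pi.smul_apply, smul_eq_mul, Matrix.mulVec, dotProduct, krylov,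
    Matrix.of_apply]
  refine Finset.sum_congr rfl fun j _ => ?_
  rw [Finset.sum_mul]
  refine Finset.sum_congr rfl fun x _ => ?_
  rw [Matrix.smul_apply, smul_eq_mul]
  ring

theorem krylov_map {C : Type v} [CommRing C] (φ : B →+* C) (g : Matrix (Fin n) (Fin n) B)
    (v : Fin n → B) : (krylov g v).map φ = krylov (g.map φ) (φ ∘ v) := by
  ext i j
  rw [Matrix.map_apply, krylov, krylov, Matrix.of_apply, Matrix.of_apply, RingHom.map_mulVec]
  rw [show (g.map φ) ^ (j : ℕ) = (g ^ (j : ℕ)).map φ from (map_pow φ.mapMatrix g _).symm]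

theorem krylov_mul (g : Matrix (Fin n) (Fin n) B) (v : Fin n → B) (Z : Matrix (Fin n) (Fin n) B)
    (hZ : Commute Z g) (h0 : Z.mulVec v = 0) : Z * krylov g v = 0 := by
  ext i j
  have h1 : Z.mulVec ((g ^ (j : ℕ)).mulVec v) = 0 := by
    rw [Matrix.mulVec_mulVec, (hZ.pow_right _).eq, ← Matrix.mulVec_mulVec, h0, Matrix.mulVec_zero]
  simpa [Matrix.mul_apply, Matrix.mulVec, dotProduct, krylov] using congrFun h1 i

theorem exists_krylov_det_notMem (g : Matrix (Fin n) (Fin n) B) (p : Ideal B) [p.IsPrime]
    (h : Module.finrank p.ResidueField (Subalgebra.centralizer p.ResidueField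
      ({g.map (algebraMap B p.ResidueField)} : Set (Matrix (Fin n) (Fin n) p.ResidueField))) ≤ n) :
    ∃ v : Fin n → B, (krylov g v).det ∉ p := by
  classical
  set g' := g.map (algebraMap B p.ResidueField) with hg'
  set f := Matrix.toLinAlgEquiv' g' with hf
  obtain ⟨v', hv'⟩ := exists_cyclic_vector f (by
    rw [Module.finrank_fin_fun]
    refine le_trans (le_of_eq ?_) h
    refine (LinearEquiv.finrank_eq ?_).symm
    refine Matrix.toLinAlgEquiv'.toLinearEquiv.ofSubmodules
      (Subalgebra.centralizer p.ResidueField ({g'} : Set _)).toSubmodule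
      (Subalgebra.centralizer p.ResidueField ({f} : Set _)).toSubmodule ?_
    ext x
    simp only [Submodule.mem_map, Subalgebra.mem_toSubmodule, Subalgebra.mem_centralizer_iff,
      Set.mem_singleton_iff, forall_eq, hf]
    constructor
    · rintro ⟨y, hy, rfl⟩
      have := congrArg Matrix.toLinAlgEquiv' hy
      simp only [map_mul] at this
      exact this
    · intro hx
      refine ⟨Matrix.toLinAlgEquiv'.symm x, Matrix.toLinAlgEquiv'.injective ?_, by simp⟩
      simpa using hx)
  have hdet : (krylov g' v').det ≠ 0 := by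
    intro h0
    obtain ⟨c, hc0, hc⟩ := Matrix.exists_vecMul_eq_zero_iff.2 h0
    let ψ : (Fin n → p.ResidueField) →ₗ[p.ResidueField] p.ResidueField :=
      ∑ i, c i • LinearMap.proj i
    have hψ : ψ = 0 := by
      refine LinearMap.ext_on hv' ?_
      rintro _ ⟨j, rfl⟩
      have hj : (j : ℕ) < n := by
        have := j.2
        simpa [Module.finrank_fin_fun] using this
      simp only [hf, ← map_pow, Matrix.toLinAlgEquiv'_apply]
      simpa [ψ, Matrix.vecMul, dotProduct, krylov] using congrFun hc ⟨j, hj⟩
    apply hc0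
    funext i
    simpa [ψ, Pi.single_apply] using congrArg (fun q => q (Pi.single i 1)) hψ
  have hfrac : ∀ z : p.ResidueField, ∃ (b : B) (s : B), s ∉ p ∧
      z * algebraMap B p.ResidueField s = algebraMap B p.ResidueField b := fun z => by
    obtain ⟨b, s, hs, hz⟩ := IsFractionRing.div_surjective (A := B ⧸ p) z
    obtain ⟨b, rfl⟩ := Ideal.Quotient.mk_surjective b
    obtain ⟨s, rfl⟩ := Ideal.Quotient.mk_surjective s
    refine ⟨b, s, fun h => nonZeroDivisors.ne_zero hs (Ideal.Quotient.eq_zero_iff_mem.2 h), ?_⟩
    rw [← hz]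
    have hs0 : algebraMap (B ⧸ p) p.ResidueField (Ideal.Quotient.mk p s) ≠ 0 :=
      IsFractionRing.to_map_ne_zero_of_mem_nonZeroDivisors hs
    exact div_mul_cancel₀ _ hs0
  choose b s hs hbs using fun i => hfrac (v' i)
  refine ⟨fun i => b i * ∏ k ∈ Finset.univ.erase i, s k, fun hmem => ?_⟩
  have h0 : algebraMap B p.ResidueField (krylov g (fun i => b i * ∏ k ∈ Finset.univ.erase i, s k)).det = 0 :=
    Ideal.algebraMap_residueField_eq_zero.2 hmem
  rw [RingHom.map_det, RingHom.mapMatrix_apply, krylov_map,
    show (algebraMap B p.ResidueField ∘ fun i => b i * ∏ k ∈ Finset.univ.erase i, s k) =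
      algebraMap B p.ResidueField (∏ k, s k) • v' by
      funext i
      simp only [Function.comp_apply, map_mul, Pi.smul_apply, smul_eq_mul, ← hbs i]
      rw [← Finset.mul_prod_erase _ _ (Finset.mem_univ i), map_mul]
      ring,
    show krylov g' (algebraMap B p.ResidueField (∏ k, s k) • v') =
      algebraMap B p.ResidueField (∏ k, s k) • krylov g' v' by
      ext i j
      simp [krylov, Matrix.mulVec_smul],
    Matrix.det_smul] at h0
  refine mul_ne_zero (pow_ne_zero _ ?_) hdet h0
  rw [map_prod]
  exact Finset.prod_ne_zero_iff.2 fun k _ hk => hs k (Ideal.algebraMap_residueField_eq_zero.1 hk)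

/-- Locally cyclic matrices: the determinants of Krylov matrices generate the unit ideal. -/
theorem span_krylov_eq_top (g : Matrix (Fin n) (Fin n) B)
    (h : ∀ (p : Ideal B) [p.IsPrime], Module.finrank p.ResidueField (Subalgebra.centralizer p.ResidueField
      ({g.map (algebraMap B p.ResidueField)} : Set (Matrix (Fin n) (Fin n) p.ResidueField))) ≤ n) :
    Ideal.span (Set.range fun v : Fin n → B => (krylov g v).det ^ 2) = ⊤ := by
  by_contra hne
  obtain ⟨p, hp, hle⟩ := Ideal.exists_le_maximal _ hne
  obtain ⟨v, hv⟩ := exists_krylov_det_notMem g p (h p)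
  exact hv (hp.isPrime.mem_of_pow_mem 2 (hle (Ideal.subset_span ⟨v, rfl⟩)))

theorem linearIndependent_pow (g : Matrix (Fin n) (Fin n) B)
    (h : Ideal.span (Set.range fun v : Fin n → B => (krylov g v).det ^ 2) = ⊤) (c : Fin n → B)
    (hc : ∑ j : Fin n, c j • g ^ (j : ℕ) = 0) : c = 0 := by
  funext i
  refine (Submodule.mem_bot (R := B)).1 ?_
  refine Submodule.mem_of_span_top_of_smul_mem _ _ h _ ?_
  rintro ⟨_, v, rfl⟩
  have h1 := congrArg (Matrix.mulVec (krylov g v).adjugate) (krylov_mulVec g v c)
  rw [hc, Matrix.zero_mulVec, Matrix.mulVec_zero, Matrix.mulVec_mulVec, Matrix.adjugate_mul,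
    Matrix.smul_mulVec, Matrix.one_mulVec] at h1
  have h2 : (krylov g v).det * c i = 0 := congrFun h1 i
  show (krylov g v).det ^ 2 • c i ∈ (⊥ : Submodule B B)
  rw [Submodule.mem_bot, smul_eq_mul, sq, mul_assoc, h2, mul_zero]

theorem exists_eq_sum_pow (g : Matrix (Fin n) (Fin n) B)
    (h : Ideal.span (Set.range fun v : Fin n → B => (krylov g v).det ^ 2) = ⊤)
    (x : Matrix (Fin n) (Fin n) B) (hx : Commute x g) :
    ∃ c : Fin n → B, x = ∑ j : Fin n, c j • g ^ (j : ℕ) := by
  suffices x ∈ Submodule.span B (Set.range fun j : Fin n => g ^ (j : ℕ)) by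
    obtain ⟨c, hc⟩ := (Submodule.mem_span_range_iff_exists_fun B).1 this
    exact ⟨c, hc.symm⟩
  refine Submodule.mem_of_span_top_of_smul_mem _ _ h _ ?_
  rintro ⟨_, v, rfl⟩
  set M := krylov g v
  set D := M.det
  set c := M.adjugate.mulVec (x.mulVec v)
  set Z := D • x - ∑ j : Fin n, c j • g ^ (j : ℕ) with hZ
  have hZg : Commute Z g :=
    (hx.smul_left D).sub_left (Commute.sum_left _ _ _ fun j _ => (((Commute.refl g).pow_left _).smul_left _))
  have hZv : Z.mulVec v = 0 := by
    rw [hZ, Matrix.sub_mulVec, ← krylov_mulVec, Matrix.smul_mulVec, sub_eq_zero]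
    show _ = M.mulVec (M.adjugate.mulVec (x.mulVec v))
    rw [Matrix.mulVec_mulVec, Matrix.mul_adjugate, Matrix.smul_mulVec, Matrix.one_mulVec]
  have hDZ : D • Z = 0 := by
    have := congrArg (· * M.adjugate) (krylov_mul g v Z hZg hZv)
    simp only [Matrix.zero_mul, Matrix.mul_assoc, M, Matrix.mul_adjugate, Matrix.mul_smul,
      Matrix.mul_one] at this
    exact this
  rw [hZ, smul_sub, sub_eq_zero, smul_smul] at hDZ
  show D ^ 2 • x ∈ _
  rw [sq, hDZ]
  exact Submodule.smul_mem _ _ (Submodule.sum_mem _ fun j _ =>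
    Submodule.smul_mem _ _ (Submodule.subset_span ⟨j, rfl⟩))

theorem commute_of_commute (g : Matrix (Fin n) (Fin n) B)
    (h : Ideal.span (Set.range fun v : Fin n → B => (krylov g v).det ^ 2) = ⊤)
    (x y : Matrix (Fin n) (Fin n) B) (hx : Commute x g) (hy : Commute y g) : Commute x y := by
  obtain ⟨c, rfl⟩ := exists_eq_sum_pow g h x hx
  exact Commute.sum_left _ _ _ fun j _ => ((hy.pow_right _).symm.smul_left _)

/-- Regularity at every field valued point gives local cyclicity after base change. -/
theorem span_krylov_eq_top_of_hom {A : Type u} [CommRing A] (g : Matrix (Fin n) (Fin n) A)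
    (hreg : ∀ (K : Type u) [Field K] (φ : A →+* K),
      Module.finrank K (Subalgebra.centralizer K ({g.map φ} : Set (Matrix (Fin n) (Fin n) K))) = n)
    (ψ : A →+* B) :
    Ideal.span (Set.range fun v : Fin n → B => (krylov (g.map ψ) v).det ^ 2) = ⊤ := by
  refine span_krylov_eq_top _ fun p _ => le_of_eq ?_
  have h := hreg p.ResidueField ((algebraMap B p.ResidueField).comp ψ)
  rwa [show g.map ((algebraMap B p.ResidueField).comp ψ) = (g.map ψ).map (algebraMap B p.ResidueField)
    from (Matrix.map_map).symm] at h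

end Ring

end Groth.Agent.H26Misc.Cyclic
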