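/-
Kernel of `a ⊗ b ↦ a • d b` on a tensor square, described by explicit `k`-linear generators.
-/
import Mathlib.RingTheory.Kaehler.Basic
import Mathlib.Tactic

set_option autoImplicit false
universe u v

open TensorProduct

namespace Groth.Agent.H26Misc

variable (k : Type u) [CommRing k] (A : Type v) [CommRing A] [Algebra k A]

/-- `1 ⊗ u - u ⊗ 1`. -/
noncomputable def dg (u : A) : A ⊗[k] A := (1 : A) ⊗ₜ[k] u - u ⊗ₜ[k] (1 : A)

/-- The `k`-span of the standard generators of the square of the diagonal ideal. -/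
noncomputable def sqSpan : Submodule k (A ⊗[k] A) :=
  Submodule.span k (Set.range fun t : A × A × A => (t.1 ⊗ₜ[k] (1 : A)) * (dg k A t.2.1 * dg k A t.2.2))

variable {k A}

theorem sqSpan_left (a : A) {z : A ⊗[k] A} (hz : z ∈ sqSpan k A) :
    (a ⊗ₜ[k] (1 : A)) * z ∈ sqSpan k A := by
  induction hz using Submodule.span_induction with
  | mem z hz =>
    obtain ⟨⟨b, u, v⟩, rfl⟩ := hz
    refine Submodule.subset_span ⟨(a * b, u, v), ?_⟩
    simp only [← mul_assoc, Algebra.TensorProduct.tmul_mul_tmul, one_mul]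
  | zero => simp
  | add x y _ _ hx hy => rw [mul_add]; exact add_mem hx hy
  | smul c x _ hx => rw [mul_smul_comm]; exact Submodule.smul_mem _ c hx

theorem dg_right_mul (b u : A) :
    ((1 : A) ⊗ₜ[k] b) * dg k A u = dg k A (b * u) - (u ⊗ₜ[k] (1 : A)) * dg k A b := by
  simp only [dg, mul_sub, Algebra.TensorProduct.tmul_mul_tmul, one_mul, mul_one, mul_comm b u]
  abel

theorem sqSpan_right (b : A) {z : A ⊗[k] A} (hz : z ∈ sqSpan k A) :
    ((1 : A) ⊗ₜ[k] b) * z ∈ sqSpan k A := by
  induction hz using Submodule.span_induction with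
  | mem z hz =>
    obtain ⟨⟨a, u, v⟩, rfl⟩ := hz
    have h1 : ((1 : A) ⊗ₜ[k] b) * ((a ⊗ₜ[k] (1 : A)) * (dg k A u * dg k A v)) =
        (a ⊗ₜ[k] (1 : A)) * (dg k A (b * u) * dg k A v) -
          ((a * u) ⊗ₜ[k] (1 : A)) * (dg k A b * dg k A v) := by
      rw [mul_left_comm, ← mul_assoc ((1 : A) ⊗ₜ[k] b), dg_right_mul, sub_mul, mul_sub]
      simp only [← mul_assoc, Algebra.TensorProduct.tmul_mul_tmul, one_mul]
    rw [h1]
    exact sub_mem (Submodule.subset_span ⟨(a, b * u, v), rfl⟩)
      (Submodule.subset_span ⟨(a * u, b, v), rfl⟩)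
  | zero => simp
  | add x y _ _ hx hy => rw [mul_add]; exact add_mem hx hy
  | smul c x _ hx => rw [mul_smul_comm]; exact Submodule.smul_mem _ c hx

theorem sq_le_sqSpan {z : A ⊗[k] A} (hz : z ∈ KaehlerDifferential.ideal k A ^ 2) :
    z ∈ sqSpan k A := by
  have hcl : ∀ (x : A ⊗[k] A) {z}, z ∈ sqSpan k A → x * z ∈ sqSpan k A := by
    intro x z hz
    induction x using TensorProduct.induction_on with
    | zero => simp
    | tmul a b =>
      have : a ⊗ₜ[k] b = (a ⊗ₜ[k] (1 : A)) * ((1 : A) ⊗ₜ[k] b) := by simp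
      rw [this, mul_assoc]
      exact sqSpan_left a (sqSpan_right b hz)
    | add x y hx hy => rw [add_mul]; exact add_mem hx hy
  rw [pow_two, ← KaehlerDifferential.span_range_eq_ideal, Ideal.span_mul_span'] at hz
  induction hz using Submodule.span_induction with
  | mem z hz =>
    obtain ⟨_, ⟨u, rfl⟩, _, ⟨v, rfl⟩, rfl⟩ := Set.mem_mul.mp hz
    refine Submodule.subset_span ⟨(1, u, v), ?_⟩
    show ((1 : A) ⊗ₜ[k] (1 : A)) * (dg k A u * dg k A v) = _
    rw [← Algebra.TensorProduct.one_def, one_mul]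
    rfl
  | zero => simp
  | add x y _ _ hx hy => exact add_mem hx hy
  | smul c x _ hx => exact hcl c hx

theorem theta_eq_zero_imp (z : A ⊗[k] A)
    (h : (KaehlerDifferential.D k A).tensorProductTo z = 0) :
    z - (LinearMap.mul' k A z) ⊗ₜ[k] (1 : A) ∈ sqSpan k A := by
  apply sq_le_sqSpan
  set w := z - (LinearMap.mul' k A z) ⊗ₜ[k] (1 : A) with hw
  have hwI : w ∈ KaehlerDifferential.ideal k A := by
    rw [RingHom.mem_ker]
    show LinearMap.mul' k A w = 0
    rw [hw, map_sub, LinearMap.mul'_apply, mul_one, sub_self]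
  have h0 : (KaehlerDifferential.ideal k A).toCotangent ⟨w, hwI⟩ = 0 := by
    have h1 := KaehlerDifferential.D_tensorProductTo ⟨w, hwI⟩
    simp only [hw, map_sub, h, Derivation.tensorProductTo_tmul, Derivation.map_one_eq_zero,
      smul_zero, sub_zero] at h1
    exact h1.symm
  exact (Ideal.toCotangent_eq_zero _ ⟨w, hwI⟩).mp h0

theorem span_smul_D_eq_top :
    Submodule.span k (Set.range fun t : A × A => t.1 • KaehlerDifferential.D k A t.2) = ⊤ := by
  rw [eq_top_iff]
  intro ω _
  obtain ⟨z, rfl⟩ := KaehlerDifferential.tensorProductTo_surjective k A ω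
  induction z using TensorProduct.induction_on with
  | zero => simp
  | tmul a b => exact Submodule.subset_span ⟨(a, b), rfl⟩
  | add x y hx hy => rw [map_add]; exact add_mem (hx trivial) (hy trivial)

end Groth.Agent.H26Misc
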