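/-
Division algebras of dimension p ^ 2: generation, inseparable elements, Wedderburn's argument
for degree three.
-/
import Mathlib.FieldTheory.Separable
import Mathlib.FieldTheory.Minpoly.Field
import Mathlib.FieldTheory.Minpoly.Basic
import Mathlib.Algebra.Central.Defs
import Mathlib.RingTheory.IntegralClosure.IsIntegralClosure.Basic
import Mathlib.LinearAlgebra.Dimension.Finrank
import Mathlib.LinearAlgebra.FiniteDimensional.Defs
import Mathlib.LinearAlgebra.Dimension.FreeAndStrongRankCondition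
import Mathlib.Algebra.CharP.Lemmas
import Mathlib.Algebra.CharP.Algebra
import Mathlib.Algebra.Algebra.Bilinear
import Mathlib.RingTheory.Adjoin.Basic
import Mathlib.RingTheory.AdjoinRoot
import Mathlib.RingTheory.Ideal.Quotient.Operations
import Mathlib.Tactic

set_option autoImplicit false

namespace Groth.Agent.H26Misc.DivDeg

open Polynomial

variable {K : Type*} [Field K] {A : Type*} [DivisionRing A] [Algebra K A] [FiniteDimensional K A]

theorem mem_range_of_commute_gen [Algebra.IsCentral K A] {a b c : A}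
    (hgen : Algebra.adjoin K ({a, b} : Set A) = ⊤) (ha : Commute c a) (hb : Commute c b) :
    c ∈ (algebraMap K A).range := by
  have hall : ∀ x : A, Commute c x := by
    intro x
    have hx : x ∈ Algebra.adjoin K ({a, b} : Set A) := hgen ▸ Algebra.mem_top
    induction hx using Algebra.adjoin_induction with
    | mem y hy => rcases hy with rfl | rfl <;> assumption
    | algebraMap r => exact Algebra.commute_algebraMap_right r c
    | add y z _ _ hy hz => exact hy.add_right hz
    | mul y z _ _ hy hz => exact hy.mul_right hz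
  have : c ∈ Subalgebra.center K A := Subalgebra.mem_center_iff.mpr fun y => (hall y).symm.eq
  obtain ⟨k, hk⟩ := Algebra.mem_bot.mp (Algebra.IsCentral.out this)
  exact ⟨k, hk⟩

theorem commute_of_mem_range {c : A} (h : c ∈ (algebraMap K A).range) (x : A) : Commute c x := by
  obtain ⟨k, rfl⟩ := h
  exact Algebra.commute_algebraMap_left k x

theorem finrank_sub_dvd (S : Subalgebra K A) : Module.finrank K S ∣ Module.finrank K A := by
  classical
  letI : DivisionRing S := DivisionRing.ofIsUnitOrEqZero fun y => by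
    by_cases h : y = 0
    · exact Or.inr h
    · obtain ⟨z, hz⟩ := FiniteDimensional.exists_mul_eq_one K h
      exact Or.inl ⟨⟨y, z, hz, mul_eq_one_comm.mp hz⟩, rfl⟩
  letI : Module S A := Module.compHom A S.val.toRingHom
  letI : SMul S A := Module.toDistribMulAction.toDistribSMul.toSMul
  haveI : IsScalarTower K S A := ⟨fun k s x => by
    show ((k • s : S) : A) * x = k • ((s : A) * x)
    rw [Subalgebra.coe_smul, smul_mul_assoc]⟩
  haveI : Module.Free S A := Module.Free.of_divisionRing S A
  exact ⟨_, (Module.finrank_mul_finrank K S A).symm⟩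

theorem finrank_adjoin_eq (x : A) :
    Module.finrank K (Algebra.adjoin K ({x} : Set A)) = (minpoly K x).natDegree := by
  have hker : RingHom.ker ((aeval (R := K) x).rangeRestrict) = Ideal.span {minpoly K x} := by
    ext q
    rw [RingHom.mem_ker, Ideal.mem_span_singleton, minpoly.dvd_iff, Subtype.ext_iff]
    rfl
  rw [Algebra.adjoin_singleton_eq_range_aeval,
    ← (Ideal.quotientKerAlgEquivOfSurjective
      (f := (aeval (R := K) x).rangeRestrict) (AlgHom.rangeRestrict_surjective _)).toLinearEquiv.finrank_eq,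
    LinearEquiv.finrank_eq (Ideal.quotientEquivAlgOfEq K hker).toLinearEquiv,
    finrank_quotient_span_eq_natDegree]

theorem eq_top_of_finrank {S : Subalgebra K A} (h : Module.finrank K S = Module.finrank K A) : S = ⊤ := by
  apply Algebra.toSubmodule_eq_top.mp
  exact Submodule.eq_top_of_finrank_eq h

theorem minpoly_natDegree_eq [Algebra.IsCentral K A] {p : ℕ} (hp : p.Prime)
    (hA : Module.finrank K A = p ^ 2) {x : A} (hx : x ∉ (algebraMap K A).range) :
    (minpoly K x).natDegree = p := by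
  have hdvd := finrank_sub_dvd (Algebra.adjoin K ({x} : Set A))
  rw [finrank_adjoin_eq, hA] at hdvd
  obtain ⟨i, hi, he⟩ := (Nat.dvd_prime_pow hp).mp hdvd
  interval_cases i
  · exact absurd (minpoly.natDegree_eq_one_iff.mp (by simpa using he)) hx
  · simpa using he
  · exfalso
    apply hx
    have hgen : Algebra.adjoin K ({x, x} : Set A) = ⊤ := by
      rw [Set.pair_eq_singleton]
      exact eq_top_of_finrank (by rw [finrank_adjoin_eq, he, hA])
    exact mem_range_of_commute_gen hgen (Commute.refl x) (Commute.refl x)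

theorem adjoin_pair_eq_top {p : ℕ} (hp : p.Prime) (hA : Module.finrank K A = p ^ 2)
    [Algebra.IsCentral K A] {a b : A} (hab : ¬ Commute a b) :
    Algebra.adjoin K ({a, b} : Set A) = ⊤ := by
  set S := Algebra.adjoin K ({a, b} : Set A) with hS
  have hdvd := finrank_sub_dvd S
  rw [hA] at hdvd
  obtain ⟨i, hi, he⟩ := (Nat.dvd_prime_pow hp).mp hdvd
  have haS : a ∈ S := Algebra.subset_adjoin (by simp)
  have hbS : b ∈ S := Algebra.subset_adjoin (by simp)
  have haK : a ∉ (algebraMap K A).range := fun h => hab (commute_of_mem_range h b)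
  have hle : Algebra.adjoin K ({a} : Set A) ≤ S := Algebra.adjoin_mono (by simp)
  have hd : Module.finrank K (Algebra.adjoin K ({a} : Set A)) = p := by
    rw [finrank_adjoin_eq, minpoly_natDegree_eq hp hA haK]
  have hmono := Submodule.finrank_mono (R := K) (Subalgebra.toSubmodule.monotone hle)
  interval_cases i
  · exfalso
    simp only [Subalgebra.finrank_toSubmodule, hd, he, pow_zero] at hmono
    exact absurd hp.two_le (by omega)
  · exfalso
    apply hab
    have heq : Subalgebra.toSubmodule (Algebra.adjoin K ({a} : Set A)) = Subalgebra.toSubmodule S :=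
      Submodule.eq_of_le_of_finrank_eq (Subalgebra.toSubmodule.monotone hle) (by
        simp only [Subalgebra.finrank_toSubmodule]; rw [hd, he, pow_one])
    have hb : b ∈ Algebra.adjoin K ({a} : Set A) := by
      rw [← Subalgebra.mem_toSubmodule, heq]; exact hbS
    exact Algebra.commute_of_mem_adjoin_singleton_of_commute hb (Commute.refl a)
  · exact eq_top_of_finrank (by rw [he, hA])

/-- Elements commuting with a noncentral element commute with each other. -/
theorem commute_of_commute [Algebra.IsCentral K A] {p : ℕ} (hp : p.Prime)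
    (hA : Module.finrank K A = p ^ 2) {θ x y : A} (hθ : θ ∉ (algebraMap K A).range)
    (hx : Commute θ x) (hy : Commute θ y) : Commute x y := by
  by_contra hxy
  exact hθ (mem_range_of_commute_gen (adjoin_pair_eq_top hp hA hxy) hx hy)

theorem no_quadratic [Algebra.IsCentral K A] {p : ℕ} (hp : p.Prime) (h3 : 3 ≤ p)
    (hA : Module.finrank K A = p ^ 2) {θ : A} (hθ : θ ∉ (algebraMap K A).range) (β γ : K) :
    θ * θ + algebraMap K A β * θ + algebraMap K A γ ≠ 0 := by
  intro h
  have hne : (X ^ 2 + C β * X + C γ : K[X]).Monic := by monicity!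
  have hdvd : minpoly K θ ∣ X ^ 2 + C β * X + C γ := minpoly.dvd K θ (by simpa [sq] using h)
  have h1 := natDegree_le_of_dvd hdvd hne.ne_zero
  rw [minpoly_natDegree_eq hp hA hθ] at h1
  have h4 : (X ^ 2 + C β * X + C γ : K[X]).natDegree = 2 := by compute_degree!
  omega

theorem not_isSeparable_of_pow [Algebra.IsCentral K A] {p : ℕ} [Fact p.Prime] [CharP K p]
    (hA : Module.finrank K A = p ^ 2) {z : A} (hz : z ∉ (algebraMap K A).range)
    (hzp : z ^ p ∈ (algebraMap K A).range) : ¬ IsSeparable K z := by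
  intro hsep
  obtain ⟨k, hk⟩ := hzp
  have hp : p.Prime := Fact.out
  have hint : IsIntegral K z := Algebra.IsIntegral.isIntegral z
  have hd := minpoly_natDegree_eq hp hA hz
  have heq : minpoly K z = X ^ p - C k := by
    refine (eq_of_monic_of_dvd_of_natDegree_le (minpoly.monic hint) (monic_X_pow_sub_C k hp.ne_zero)
      (minpoly.dvd K z (by simp [hk])) (le_of_eq ?_)).symm
    rw [natDegree_X_pow_sub_C, hd]
  have h : (minpoly K z).Separable := hsep
  rw [heq, separable_def, derivative_sub, derivative_X_pow, derivative_C, sub_zero,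
    CharP.cast_eq_zero, C_0, zero_mul, isCoprime_zero_right] at h
  have h1 := natDegree_eq_zero_of_isUnit h
  rw [natDegree_X_pow_sub_C] at h1
  exact hp.ne_zero h1

/-- The main criterion: if some `w` conjugates a noncentral `θ` onto a different element and
`w ^ p` commutes with `θ`, then `w` is inseparable. -/
theorem exists_insep_of_twist [Algebra.IsCentral K A] {p : ℕ} [Fact p.Prime] [CharP K p]
    (hA : Module.finrank K A = p ^ 2) {θ w : A} (hnc : ¬ Commute θ w) (hwp : Commute (w ^ p) θ) :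
    ∃ v : A, ¬ IsSeparable K v :=
  ⟨w, not_isSeparable_of_pow hA (fun h => hnc (commute_of_mem_range h θ).symm)
    (mem_range_of_commute_gen (adjoin_pair_eq_top Fact.out hA hnc) hwp (Commute.pow_self w p))⟩

omit [FiniteDimensional K A] in
theorem ad_pow_prime {p : ℕ} [Fact p.Prime] [CharP K p] (v x : A) :
    ((LinearMap.mulLeft K v - LinearMap.mulRight K v) ^ p) x = v ^ p * x - x * v ^ p := by
  haveI : CharP (Module.End K A) p :=
    charP_of_injective_algebraMap (FaithfulSMul.algebraMap_injective K (Module.End K A)) p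
  rw [sub_pow_char_of_commute p (LinearMap.commute_mulLeft_right v v), LinearMap.pow_mulLeft,
    LinearMap.pow_mulRight]
  simp

omit [FiniteDimensional K A] in
theorem ad_apply (v x : A) :
    (LinearMap.mulLeft K v - LinearMap.mulRight K v) x = v * x - x * v := by simp

theorem insep_degree_two [Algebra.IsCentral K A] [Fact (Nat.Prime 2)] [CharP K 2]
    (hA : Module.finrank K A = 2 ^ 2) : ∃ v : A, ¬ IsSeparable K v := by
  classical
  by_contra hcon
  push Not at hcon
  obtain ⟨θ, hθ⟩ : ∃ θ : A, θ ∉ (algebraMap K A).range := by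
    by_contra h
    push Not at h
    have hbot : (⊤ : Subalgebra K A) = ⊥ := by
      refine le_antisymm (fun x _ => ?_) bot_le
      obtain ⟨k, hk⟩ := h x
      exact Algebra.mem_bot.mpr ⟨k, hk⟩
    have : Module.finrank K A = 1 := by
      rw [← Subalgebra.topEquiv.toLinearEquiv.finrank_eq, hbot, Subalgebra.finrank_bot]
    omega
  obtain ⟨y, hy⟩ : ∃ y : A, ¬ Commute θ y := by
    by_contra h
    push Not at h
    apply hθ
    have : θ ∈ Subalgebra.center K A := Subalgebra.mem_center_iff.mpr fun y => (h y).symm.eq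
    obtain ⟨k, hk⟩ := Algebra.mem_bot.mp (Algebra.IsCentral.out this)
    exact ⟨k, hk⟩
  have hint : IsIntegral K θ := Algebra.IsIntegral.isIntegral θ
  have hd := minpoly_natDegree_eq Nat.prime_two hA hθ
  have hm := minpoly.monic hint
  set f := minpoly K θ with hf
  have h0 : θ ^ 2 + f.coeff 1 • θ + algebraMap K A (f.coeff 0) = 0 := by
    have := minpoly.aeval K θ
    rw [← hf, aeval_eq_sum_range, hd] at this
    simp only [Finset.sum_range_succ, Finset.sum_range_zero, zero_add, pow_zero, pow_one] at this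
    have hlc : f.coeff 2 = 1 := by rw [← hd]; exact hm.coeff_natDegree
    rw [hlc, one_smul, ← Algebra.algebraMap_eq_smul_one] at this
    rw [← this]; abel
  by_cases hb : f.coeff 1 = 0
  · refine not_isSeparable_of_pow hA hθ ⟨-(f.coeff 0), ?_⟩ (hcon θ)
    rw [hb, zero_smul, add_zero] at h0
    rw [map_neg]; exact (eq_neg_of_add_eq_zero_left h0).symm
  obtain ⟨w, hw⟩ : ∃ x : A, x = θ * y - y * θ := ⟨_, rfl⟩
  set β := f.coeff 1
  set γ := algebraMap K A (f.coeff 0)
  have hw0 : w ≠ 0 := fun h => hy (sub_eq_zero.mp (hw ▸ h))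
  have hsq : θ * θ = -(β • θ) - γ := by
    rw [sq] at h0
    linear_combination (norm := abel) h0
  have hwθ : θ * w = w * (-(β • (1 : A)) - θ) := by
    have e1 : θ * w = (θ * θ) * y - θ * y * θ := by rw [hw, mul_sub, ← mul_assoc, ← mul_assoc]
    have e2 : w * (-(β • (1 : A)) - θ) = -(β • w) - (θ * y * θ - y * (θ * θ)) := by
      rw [mul_sub, mul_neg, mul_smul_comm, mul_one, hw, sub_mul, mul_assoc y θ θ]
    rw [e1, e2, hsq, hw]
    have hγ : γ * y = y * γ := (Algebra.commute_algebraMap_left _ y).eq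
    simp only [sub_mul, mul_sub, neg_mul, mul_neg, smul_mul_assoc, mul_smul_comm, smul_sub, hγ]
    abel
  have hnc : ¬ Commute θ w := by
    intro h
    rw [h.eq] at hwθ
    have h2 := mul_left_cancel₀ hw0 hwθ
    apply hb
    have h3 : (2 : K) • θ = -(β • (1 : A)) := by rw [two_smul]; linear_combination (norm := abel) h2
    rw [CharTwo.two_eq_zero, zero_smul, eq_comm, neg_eq_zero, smul_eq_zero] at h3
    simpa using h3
  refine absurd (exists_insep_of_twist hA hnc ?_) (fun ⟨v, hv⟩ => hv (hcon v))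
  show w ^ 2 * θ = θ * w ^ 2
  have hθw : w * θ = (-(β • (1:A)) - θ) * w := by
    rw [sub_mul, hwθ]
    simp only [mul_sub, neg_mul, smul_mul_assoc, one_mul, mul_neg, mul_smul_comm, mul_one]
    abel
  rw [sq, mul_assoc, hθw, ← mul_assoc, ← hwθ, mul_assoc]

theorem insep_degree_three [Algebra.IsCentral K A] [Fact (Nat.Prime 3)] [CharP K 3]
    (hA : Module.finrank K A = 3 ^ 2) : ∃ v : A, ¬ IsSeparable K v := by
  classical
  by_contra hcon
  push Not at hcon
  obtain ⟨θ, hθ⟩ : ∃ θ : A, θ ∉ (algebraMap K A).range := by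
    by_contra h
    push Not at h
    have hbot : (⊤ : Subalgebra K A) = ⊥ := by
      refine le_antisymm (fun x _ => ?_) bot_le
      obtain ⟨k, hk⟩ := h x
      exact Algebra.mem_bot.mpr ⟨k, hk⟩
    have : Module.finrank K A = 1 := by
      rw [← Subalgebra.topEquiv.toLinearEquiv.finrank_eq, hbot, Subalgebra.finrank_bot]
    omega
  obtain ⟨u, hu⟩ : ∃ y : A, ¬ Commute θ y := by
    by_contra h
    push Not at h
    apply hθ
    have : θ ∈ Subalgebra.center K A := Subalgebra.mem_center_iff.mpr fun y => (h y).symm.eq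
    obtain ⟨k, hk⟩ := Algebra.mem_bot.mp (Algebra.IsCentral.out this)
    exact ⟨k, hk⟩
  have hu0 : u ≠ 0 := fun h => hu (h ▸ Commute.zero_right θ)
  have hint : IsIntegral K θ := Algebra.IsIntegral.isIntegral θ
  have hd := minpoly_natDegree_eq Nat.prime_three hA hθ
  have hm := minpoly.monic hint
  set f := minpoly K θ with hf
  obtain ⟨a, ha⟩ : ∃ a : A, a = algebraMap K A (-(f.coeff 2)) := ⟨_, rfl⟩
  obtain ⟨b, hb⟩ : ∃ b : A, b = algebraMap K A (f.coeff 1) := ⟨_, rfl⟩
  obtain ⟨c, hc⟩ : ∃ c : A, c = algebraMap K A (-(f.coeff 0)) := ⟨_, rfl⟩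
  have hca : ∀ x : A, a * x = x * a := fun x => by rw [ha]; exact Algebra.commutes _ x
  have hcb : ∀ x : A, b * x = x * b := fun x => by rw [hb]; exact Algebra.commutes _ x
  have hcc : ∀ x : A, c * x = x * c := fun x => by rw [hc]; exact Algebra.commutes _ x
  have hroot : ∀ x : A, aeval x f = x * x * x - a * (x * x) + b * x - c := by
    intro x
    have hlc : f.coeff 3 = 1 := by rw [← hd]; exact hm.coeff_natDegree
    rw [aeval_eq_sum_range, hd]
    simp only [Finset.sum_range_succ, Finset.sum_range_zero, zero_add, pow_zero, pow_one, hlc,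
      one_smul, ha, hb, hc, map_neg, neg_mul, ← Algebra.smul_def, Algebra.algebraMap_eq_smul_one]
    simp only [pow_succ, pow_zero, one_mul, smul_mul_assoc]
    abel
  have hfθ : θ * θ * θ - a * (θ * θ) + b * θ - c = 0 := by rw [← hroot, hf]; exact minpoly.aeval K θ
  have hc0 : c ≠ 0 := by
    intro h
    rw [h, sub_zero] at hfθ
    have hθ0 : θ ≠ 0 := fun h0 => hθ (h0 ▸ zero_mem _)
    have h2 : (θ * θ - a * θ + b) * θ = 0 := by
      rw [add_mul, sub_mul, mul_assoc a θ θ]; exact hfθ
    have h3 := (mul_eq_zero.mp h2).resolve_right hθ0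
    refine no_quadratic Nat.prime_three le_rfl hA hθ (f.coeff 2) (f.coeff 1) ?_
    rw [← h3, ha, hb, map_neg, neg_mul, sub_neg_eq_add]
  -- the second root
  obtain ⟨θ', hθ'⟩ : ∃ x : A, x = u * θ * u⁻¹ := ⟨_, rfl⟩
  obtain ⟨d, hdd⟩ : ∃ x : A, x = θ' - θ := ⟨_, rfl⟩
  have hd0 : d ≠ 0 := by
    intro h
    apply hu
    have h1 : θ' = θ := sub_eq_zero.mp (hdd ▸ h)
    have h2 : θ' * u = θ * u := by rw [h1]
    rw [hθ', inv_mul_cancel_right₀ hu0] at h2
    exact h2.symm
  have hfθ' : θ' * θ' * θ' - a * (θ' * θ') + b * θ' - c = 0 := by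
    have e : θ' * θ' * θ' - a * (θ' * θ') + b * θ' - c =
        u * (θ * θ * θ - a * (θ * θ) + b * θ - c) * u⁻¹ := by
      have hua : ∀ x, u * (a * x) = a * (u * x) := fun x => by rw [← mul_assoc, ← hca, mul_assoc]
      have hub : ∀ x, u * (b * x) = b * (u * x) := fun x => by rw [← mul_assoc, ← hcb, mul_assoc]
      have huc : u * c * u⁻¹ = c := by rw [← hcc, mul_assoc, mul_inv_cancel₀ hu0, mul_one]
      simp only [hθ', mul_sub, mul_add, sub_mul, add_mul, huc, hua, hub, mul_assoc,
        inv_mul_cancel_left₀ hu0]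
    rw [e, hfθ, mul_zero, zero_mul]
  obtain ⟨θ₂, hθ₂⟩ : ∃ x : A, x = d * θ' * d⁻¹ := ⟨_, rfl⟩
  obtain ⟨θ₃, hθ₃⟩ : ∃ x : A, x = a - θ - θ₂ := ⟨_, rfl⟩
  obtain ⟨q, hq⟩ : ∃ x : A, x = θ * θ - a * θ + b := ⟨_, rfl⟩
  have hg : θ₂ * θ₂ + (θ - a) * θ₂ + q = 0 := by
    have e : (θ₂ * θ₂ + (θ - a) * θ₂ + q) * d = 0 := by
      have e1 : θ₂ * d = d * θ' := by rw [hθ₂, inv_mul_cancel_right₀ hd0]
      have e2 : (θ₂ * θ₂ + (θ - a) * θ₂ + q) * d = d * (θ' * θ') + (θ - a) * (d * θ') + q * d := by
        rw [add_mul, add_mul, mul_assoc θ₂, e1, ← mul_assoc θ₂, e1, mul_assoc d, mul_assoc (θ - a), e1]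
      rw [e2]
      have e3 : d * (θ' * θ') + (θ - a) * (d * θ') + q * d =
          (θ' * θ' * θ' - a * (θ' * θ') + b * θ' - c) - (θ * θ * θ - a * (θ * θ) + b * θ - c) := by
        simp only [hdd, hq, mul_sub, mul_add, sub_mul, add_mul, mul_assoc]
        abel
      rw [e3, hfθ', hfθ, sub_zero]
    exact (mul_eq_zero.mp e).resolve_right hd0
  have hq' : θ₃ * θ₂ = q := by
    have : θ₃ * θ₂ = -(θ₂ * θ₂ + (θ - a) * θ₂) := by
      simp only [hθ₃, sub_mul]; abel
    rw [this]
    exact (eq_neg_of_add_eq_zero_right hg).symm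
  have hqθ : q * θ = c := by
    have : q * θ = (θ * θ * θ - a * (θ * θ) + b * θ - c) + c := by
      simp only [hq, sub_mul, add_mul, mul_assoc]; abel
    rw [this, hfθ, zero_add]
  have h321 : θ₃ * θ₂ * θ = c := by rw [hq', hqθ]
  have h132 : θ * θ₃ * θ₂ = c := by
    rw [mul_assoc, hq', ← hqθ, hq]
    simp only [mul_add, mul_sub, add_mul, sub_mul, ← hcb, ← mul_assoc, ← hca]
  have h213 : θ₂ * θ * θ₃ = c := by
    have hne : θ₃ ≠ 0 := fun h => hc0 (by rw [← h321, h, zero_mul, zero_mul])
    apply mul_left_cancel₀ hne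
    rw [← mul_assoc, ← mul_assoc, h321, hcc]
  obtain ⟨z, hz⟩ : ∃ x : A, x = θ * θ₂ - θ₂ * θ := ⟨_, rfl⟩
  have r1 : θ * θ₂ * θ + θ₂ * θ₂ * θ = θ₂ * θ * θ + θ₂ * θ * θ₂ := by
    have := h321.trans h213.symm
    simp only [hθ₃, sub_mul, mul_sub, ← mul_assoc] at this
    rw [← hca (θ₂ * θ), ← mul_assoc] at this
    linear_combination (norm := abel) -this
  have z1 : z * θ = θ₂ * z := by
    rw [← sub_eq_zero]
    simp only [hz, sub_mul, mul_sub, ← mul_assoc]
    linear_combination (norm := abel) r1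
  have hθeq : θ = a - θ₂ - θ₃ := by rw [hθ₃]; abel
  have hz' : z = θ₂ * θ₃ - θ₃ * θ₂ := by
    simp only [hz, hθ₃, mul_sub, sub_mul, hca θ₂]; abel
  have r2 : θ₂ * θ₃ * θ₂ + θ₃ * θ₃ * θ₂ = θ₃ * θ₂ * θ₂ + θ₃ * θ₂ * θ₃ := by
    have := h132.trans h321.symm
    rw [hθeq] at this
    simp only [sub_mul, mul_sub, ← mul_assoc] at this
    rw [← hca (θ₃ * θ₂), ← mul_assoc] at this
    linear_combination (norm := abel) -this
  have z2 : z * θ₂ = θ₃ * z := by
    rw [← sub_eq_zero]
    simp only [hz', sub_mul, mul_sub, ← mul_assoc]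
    linear_combination (norm := abel) r2
  have z3 : z * θ₃ = θ * z := by
    rw [hθ₃, mul_sub, mul_sub, z1, z2, ← hca]
    conv_lhs => rw [hθ₃]
    simp only [sub_mul]; abel
  by_cases hz0 : z = 0
  · -- commuting roots: `w` realises a cyclic permutation of the three roots
    have hcomm : Commute θ θ₂ := sub_eq_zero.mp (hz ▸ hz0)
    have h23 : Commute θ₂ θ₃ := by
      rw [hθ₃]
      exact ((Commute.sub_right (hca θ₂).symm hcomm.symm).sub_right (Commute.refl _))
    by_cases h12 : θ₂ = θ
    · -- a double root: `θ` is inseparable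
      exfalso
      rw [h12] at hg
      have h30 : (3 : A) = 0 := by
        rw [← map_ofNat (algebraMap K A) 3, CharP.ofNat_eq_zero K 3, map_zero]
      have e : a * θ + b = 0 := by
        have e' : θ * θ + (θ - a) * θ + q = 3 * (θ * θ) - 3 * (a * θ) + (a * θ + b) := by
          simp only [hq, sub_mul]; noncomm_ring
        rw [e', h30, zero_mul, zero_mul, sub_zero, zero_add] at hg
        exact hg
      have h2 : f.coeff 2 = 0 := by
        by_contra hne
        apply hθ
        refine ⟨(f.coeff 2)⁻¹ * f.coeff 1, ?_⟩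
        rw [ha, map_neg, neg_mul, neg_add_eq_zero] at e
        rw [map_mul, ← hb, ← e, ← mul_assoc, ← map_mul, inv_mul_cancel₀ hne, map_one, one_mul]
      have ha0 : a = 0 := by rw [ha, h2, neg_zero, map_zero]
      have hb0 : b = 0 := by rwa [ha0, zero_mul, zero_add] at e
      refine not_isSeparable_of_pow hA hθ ⟨-(f.coeff 0), ?_⟩ (hcon θ)
      rw [ha0, hb0, zero_mul, zero_mul, sub_zero, add_zero] at hfθ
      rw [← hc, pow_succ, pow_two]
      exact (sub_eq_zero.mp hfθ).symm
    obtain ⟨w, hw⟩ : ∃ x : A, x = d * u := ⟨_, rfl⟩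
    have hw0 : w ≠ 0 := hw ▸ mul_ne_zero hd0 hu0
    have w1 : w * θ = θ₂ * w := by
      rw [hw, hθ₂, hθ', mul_assoc d u θ, ← mul_assoc (d * (u * θ * u⁻¹) * d⁻¹), inv_mul_cancel_right₀ hd0,
        mul_assoc d (u * θ * u⁻¹) u, inv_mul_cancel_right₀ hu0]
    have hwθ : ¬ Commute θ w := by
      intro h
      apply h12
      have := w1
      rw [← h.eq] at this
      exact (mul_right_cancel₀ hw0 this).symm
    have hgen2 : θ₂ ∉ (algebraMap K A).range := by
      intro h
      apply h12
      have := w1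
      rw [(commute_of_mem_range h w).eq] at this
      exact (mul_left_cancel₀ hw0 this).symm
    obtain ⟨t, ht⟩ : ∃ x : A, x = w * θ₂ * w⁻¹ := ⟨_, rfl⟩
    have w2 : w * θ₂ = t * w := by rw [ht, inv_mul_cancel_right₀ hw0]
    have htc : Commute θ₂ t := by
      have h1 : w * (θ * θ₂) = (θ₂ * t) * w := by rw [← mul_assoc, w1, mul_assoc, w2, mul_assoc]
      have h2 : w * (θ₂ * θ) = (t * θ₂) * w := by rw [← mul_assoc, w2, mul_assoc, w1, mul_assoc]
      rw [hcomm.eq, h2] at h1
      exact (mul_right_cancel₀ hw0 h1).symm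
    have htθ : Commute t θ := commute_of_commute Nat.prime_three hA hgen2 htc hcomm.symm
    have w3 : w * θ₃ = (a - θ₂ - t) * w := by
      simp only [hθ₃, mul_sub, sub_mul, w1, w2, hca]
    have hgt : t * t + (θ₂ - a) * t + (θ₂ * θ₂ - a * θ₂ + b) = 0 := by
      have h5 : (t * t + (θ₂ - a) * t + (θ₂ * θ₂ - a * θ₂ + b)) * w =
          w * (θ₂ * θ₂ + (θ - a) * θ₂ + q) := by
        have wa : ∀ x, w * (a * x) = a * (w * x) := fun x => by rw [← mul_assoc, ← hca, mul_assoc]
        simp only [hq, mul_add, mul_sub, add_mul, sub_mul, mul_assoc, wa]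
        rw [← mul_assoc w θ₂ θ₂, w2, mul_assoc t w θ₂, w2, ← mul_assoc w θ θ₂, w1, mul_assoc θ₂ w θ₂,
          w2, ← mul_assoc w θ θ, w1, mul_assoc θ₂ w θ, w1, hcb w]
      rw [hg, mul_zero] at h5
      exact (mul_eq_zero.mp h5).resolve_right hw0
    have htg : (t - θ) * (t - θ₃) = 0 := by
      have h7 : (t - θ) * (t - θ₃) = (t * t + (θ₂ - a) * t + (θ₂ * θ₂ - a * θ₂ + b))
          - (θ₂ * θ₂ + (θ - a) * θ₂ + q) := by
        simp only [hθ₃, hq, mul_sub, sub_mul, htθ.eq, ← htc.eq, ← hca]
        abel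
      rw [h7, hgt, hg, sub_zero]
    rcases mul_eq_zero.mp htg with h | h
    · -- an involution: the third root is fixed, hence central
      exfalso
      have htθ' : t = θ := sub_eq_zero.mp h
      have hw3 : Commute θ₃ w := by
        show θ₃ * w = w * θ₃
        rw [w3, htθ', hθ₃, sub_right_comm]
      have hθθ₃ : Commute θ₃ θ := by
        rw [hθ₃]
        exact ((Commute.sub_left (hca θ) (Commute.refl θ)).sub_left hcomm.symm)
      obtain ⟨k, hk⟩ := mem_range_of_commute_gen
        (adjoin_pair_eq_top Nat.prime_three hA hwθ) hθθ₃ hw3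
      refine no_quadratic Nat.prime_three le_rfl hA hθ (f.coeff 2 + k) (f.coeff 1 + (k * k + k * f.coeff 2)) ?_
      have hrel : θ * θ - a * θ + b - θ₃ * (a - θ₃ - θ) = 0 := by
        have : a - θ₃ - θ = θ₂ := by rw [hθ₃]; abel
        rw [this, hq', hq, sub_self]
      rw [← hrel, ← hk, map_add, map_add, map_add, map_mul, map_mul, ha, ← hb, map_neg]
      noncomm_ring
    · have ht3 : t = θ₃ := sub_eq_zero.mp h
      refine absurd (exists_insep_of_twist hA hwθ ?_) (fun ⟨v, hv⟩ => hv (hcon v))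
      rw [ht3] at w2
      have w3' : w * θ₃ = θ * w := by
        rw [w3, ht3, hθ₃]; congr 1; abel
      show w ^ 3 * θ = θ * w ^ 3
      rw [pow_succ, pow_two, mul_assoc (w * w) w θ, w1, ← mul_assoc (w * w), mul_assoc w w θ₂, w2,
        ← mul_assoc w θ₃, w3', mul_assoc, mul_assoc, mul_assoc]
  · have hnc : ¬ Commute θ z := by
      intro h
      apply hz0
      have h2 : θ₂ * z = θ * z := by rw [← z1, h.eq]
      have := mul_right_cancel₀ hz0 h2
      rw [hz, this, sub_self]
    refine absurd (exists_insep_of_twist hA hnc ?_) (fun ⟨v, hv⟩ => hv (hcon v))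
    show z ^ 3 * θ = θ * z ^ 3
    rw [pow_succ, pow_two, mul_assoc (z * z) z θ, z1, ← mul_assoc (z * z), mul_assoc z z θ₂, z2,
      ← mul_assoc z θ₃, z3, mul_assoc, mul_assoc, mul_assoc]

end Groth.Agent.H26Misc.DivDeg
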