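import Mathlib.LinearAlgebra.Matrix.GeneralLinearGroup.Defs
import Mathlib.LinearAlgebra.Matrix.ToLinearEquiv
import Mathlib.LinearAlgebra.Matrix.Trace
import Mathlib.GroupTheory.OrderOfElement
import Mathlib.Data.ZMod.Basic
import Mathlib.Tactic

/-! Finite order elements of `GL₂(ℤ)`. -/

set_option autoImplicit false
open Matrix

namespace Groth.Agent.H26Misc

/-- A finite order element of `GL₂(ℤ)` fixing a nonzero vector and of determinant one is trivial. -/
theorem eq_one_of_finite_order_fixing (A : Matrix (Fin 2) (Fin 2) ℤ) {m : ℕ} (hm : 0 < m)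
    (hA : A ^ m = 1) (v : Fin 2 → ℤ) (hv : v ≠ 0) (hfix : A *ᵥ v = v) (hdet : A.det = 1) : A = 1 := by
  have h0 : (A - 1).det = 0 := Matrix.exists_mulVec_eq_zero_iff.mp ⟨v, hv, by rw [sub_mulVec, hfix, one_mulVec, sub_self]⟩
  set N := A - 1 with hN
  have htr : N.trace = 0 := by
    rw [det_fin_two] at h0 hdet
    rw [trace_fin_two]
    simp only [hN, Matrix.sub_apply, Matrix.one_apply_eq, Matrix.one_apply_ne (show (0 : Fin 2) ≠ 1 by decide),
      Matrix.one_apply_ne (show (1 : Fin 2) ≠ 0 by decide), sub_zero] at h0 ⊢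
    linarith
  have hN2 : N * N = 0 := by
    rw [det_fin_two] at h0
    rw [trace_fin_two] at htr
    have h11 : N 1 1 = -N 0 0 := by linarith
    ext i j
    fin_cases i <;> fin_cases j <;> simp [Matrix.mul_apply, Fin.sum_univ_two, h11] <;> rw [h11] at h0 <;> linarith
  have key : ∀ k : ℕ, A ^ k = 1 + (k : ℤ) • N := by
    intro k
    induction k with
    | zero => simp
    | succ k ih =>
      rw [pow_succ, ih, show A = 1 + N from (add_sub_cancel _ _).symm, add_mul, mul_add, smul_mul_assoc, mul_add, hN2]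
      simp only [mul_one, one_mul, add_zero, Nat.cast_add, Nat.cast_one, add_smul, one_smul]
      abel
  rw [key m, add_eq_left, smul_eq_zero] at hA
  rcases hA with h | h
  · omega
  · exact sub_eq_zero.mp h

theorem two_by_two_sq (A : Matrix (Fin 2) (Fin 2) ℤ) : A * A = A.trace • A - A.det • 1 := by
  ext i j
  fin_cases i <;> fin_cases j <;>
    simp [-zsmul_eq_mul, -zsmul_one, Matrix.smul_apply, Matrix.mul_apply, Fin.sum_univ_two, trace_fin_two, det_fin_two] <;> ring

/-- The trace of a determinant one finite order element is at most two in absolute value. -/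
theorem abs_trace_le_two (A : Matrix (Fin 2) (Fin 2) ℤ) {m : ℕ} (hm : 0 < m)
    (hA : A ^ m = 1) (hdet : A.det = 1) : |A.trace| ≤ 2 := by
  by_contra ht
  push Not at ht
  set t := A.trace with htdef
  have key : ∀ k : ℕ, ∃ u w : ℤ, A ^ (k + 1) = u • A - w • 1 ∧ |w| < |u| := by
    intro k
    induction k with
    | zero => exact ⟨1, 0, by simp, by simp⟩
    | succ k ih =>
      obtain ⟨u, w, e, huw⟩ := ih
      refine ⟨t * u - w, u, ?_, ?_⟩
      · rw [pow_succ, e, sub_mul, smul_mul_assoc, two_by_two_sq, hdet, smul_mul_assoc, one_mul, one_smul, ← htdef,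
          smul_sub, smul_smul, sub_smul, mul_comm t u]
        abel
      · have h1 : |t * u| ≤ |t * u - w| + |w| := by
          simpa using abs_add_le (t * u - w) w
        rw [abs_mul] at h1
        nlinarith [mul_le_mul_of_nonneg_right (show 3 ≤ |t| by omega) (abs_nonneg u), abs_nonneg w]
  obtain ⟨u, w, e, huw⟩ := key (m - 1)
  rw [Nat.sub_add_cancel hm, hA] at e
  have hu : u ≠ 0 := fun h => by rw [h, abs_zero] at huw; exact absurd huw (not_lt.mpr (abs_nonneg w))
  have e01 := congrFun (congrFun e 0) 1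
  have e10 := congrFun (congrFun e 1) 0
  have e00 := congrFun (congrFun e 0) 0
  have e11 := congrFun (congrFun e 1) 1
  simp [-zsmul_eq_mul, -zsmul_one, Matrix.smul_apply] at e01 e10 e00 e11
  have a01 : A 0 1 = 0 := e01.resolve_left hu
  have a10 : A 1 0 = 0 := e10.resolve_left hu
  have aeq : A 0 0 = A 1 1 := mul_left_cancel₀ hu (by linarith)
  rw [det_fin_two, a01, a10, aeq] at hdet
  rw [htdef, trace_fin_two, aeq] at ht
  simp only [mul_zero, sub_zero] at hdet
  rcases Int.eq_one_or_neg_one_of_mul_eq_one hdet with h | h <;> rw [h] at ht <;> norm_num at ht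

theorem exists_common_fixed (Γ : Subgroup (Matrix.GeneralLinearGroup (Fin 2) ℤ)) [Finite Γ]
    (h : ∀ γ ∈ Γ, ∃ v : Fin 2 → ℤ, v ≠ 0 ∧ (γ : Matrix (Fin 2) (Fin 2) ℤ) *ᵥ v = v) :
    ∃ v : Fin 2 → ℤ, v ≠ 0 ∧ ∀ γ ∈ Γ, (γ : Matrix (Fin 2) (Fin 2) ℤ) *ᵥ v = v := by
  have hd : ∀ γ ∈ Γ, (γ : Matrix (Fin 2) (Fin 2) ℤ).det = 1 → γ = 1 := by
    intro γ hγ hdet
    obtain ⟨m, hm, hγm⟩ := (isOfFinOrder_iff_pow_eq_one).mp (isOfFinOrder_of_finite (⟨γ, hγ⟩ : Γ))
    obtain ⟨v, hv, hfix⟩ := h γ hγ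
    refine Units.ext (eq_one_of_finite_order_fixing _ hm ?_ v hv hfix hdet)
    have := congrArg (fun x : Γ => ((x : GL (Fin 2) ℤ) : Matrix (Fin 2) (Fin 2) ℤ)) hγm
    simpa using this
  have hdd : ∀ γ ∈ Γ, γ ≠ 1 → (γ : Matrix (Fin 2) (Fin 2) ℤ).det = -1 := fun γ hγ hne =>
    (Int.isUnit_iff.mp ((Matrix.isUnit_iff_isUnit_det _).mp γ.isUnit)).resolve_left fun e => hne (hd γ hγ e)
  by_cases htriv : ∀ γ ∈ Γ, γ = 1
  · refine ⟨Pi.single 0 1, by simp, fun γ hγ => ?_⟩
    rw [htriv γ hγ, Units.val_one, one_mulVec]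
  · push Not at htriv
    obtain ⟨g, hg, hgne⟩ := htriv
    obtain ⟨v, hv, hfix⟩ := h g hg
    refine ⟨v, hv, fun γ hγ => ?_⟩
    by_cases h1 : γ = 1
    · rw [h1, Units.val_one, one_mulVec]
    have : (γ : Matrix (Fin 2) (Fin 2) ℤ).det = -1 := hdd γ hγ h1
    have heq : γ = g := by
      have h2 : γ * g⁻¹ = 1 := hd _ (mul_mem hγ (inv_mem hg)) (by
        have hinv : ((g⁻¹ : GL (Fin 2) ℤ) : Matrix (Fin 2) (Fin 2) ℤ).det = -1 :=
          hdd _ (inv_mem hg) (by simpa using hgne)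
        rw [Units.val_mul, det_mul, this, hinv]; norm_num)
      exact eq_of_mul_inv_eq_one h2
    rw [heq]; exact hfix

theorem fixed_of_fixed_mod (γ : Matrix (Fin 2) (Fin 2) ℤ) {m : ℕ} (hm : 0 < m) (hγ : γ ^ m = 1)
    (d : ℕ) (hd : 6 < d) (w : Fin 2 → ZMod d) (hw : ∀ k : ℕ, 0 < k → k < d → k • w ≠ 0)
    (hfix : (γ.map (Int.castRingHom (ZMod d))) *ᵥ w = w) :
    ∃ v : Fin 2 → ℤ, v ≠ 0 ∧ γ *ᵥ v = v := by
  have hdvd : (d : ℤ) ∣ (γ - 1).det := by
    rw [← ZMod.intCast_zmod_eq_zero_iff_dvd]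
    set M : Matrix (Fin 2) (Fin 2) (ZMod d) := (γ - 1).map (Int.castRingHom (ZMod d)) with hM
    have hMw : M *ᵥ w = 0 := by
      rw [hM, Matrix.map_sub (hf := by simp), Matrix.map_one _ (map_zero _) (map_one _), sub_mulVec, hfix, one_mulVec, sub_self]
    have hdet : M.det = ((γ - 1).det : ZMod d) := (RingHom.map_det _ _).symm
    have h2 : M.det • w = 0 := by
      have := congrArg (fun x => M.adjugate *ᵥ x) hMw
      simpa [mulVec_mulVec, adjugate_mul, smul_mulVec] using this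
    rw [← hdet]
    by_contra hne
    have : NeZero d := ⟨by omega⟩
    refine hw M.det.val (Nat.pos_of_ne_zero fun h => hne ((ZMod.val_eq_zero _).mp h)) (ZMod.val_lt _) ?_
    rw [← Nat.cast_smul_eq_nsmul (ZMod d), ZMod.natCast_zmod_val, h2]
  have hdet : γ.det = 1 ∨ γ.det = -1 := by
    have h := congrArg Matrix.det hγ
    rw [det_pow, det_one] at h
    exact Int.isUnit_iff.mp (IsUnit.of_pow_eq_one h (by omega))
  have e : (γ - 1).det = γ.det - γ.trace + 1 := by
    rw [det_fin_two, det_fin_two, trace_fin_two]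
    simp [Matrix.one_apply]
    ring
  have hb : |(γ - 1).det| ≤ 4 := by
    rw [e]
    rcases hdet with h | h
    · have := abs_trace_le_two γ hm hγ h
      rw [abs_le] at this ⊢
      omega
    · have h' := abs_trace_le_two (γ * γ) hm
        (by rw [← pow_two, ← pow_mul, mul_comm, pow_mul, hγ, one_pow]) (by rw [det_mul, h]; norm_num)
      rw [two_by_two_sq, h, trace_sub, trace_smul, trace_smul, trace_one] at h'
      simp only [smul_eq_mul, Fintype.card_fin, Nat.cast_ofNat] at h'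
      rw [abs_le] at h' ⊢
      constructor <;> nlinarith
  have hdd : (d : ℤ) ∣ |(γ - 1).det| := (dvd_abs _ _).mpr hdvd
  have hz : (γ - 1).det = 0 := abs_eq_zero.mp (Int.eq_zero_of_dvd_of_nonneg_of_lt (abs_nonneg _) (by omega) hdd)
  obtain ⟨v, hv, hv'⟩ := Matrix.exists_mulVec_eq_zero_iff.mpr hz
  exact ⟨v, hv, by rwa [sub_mulVec, one_mulVec, sub_eq_zero] at hv'⟩

end Groth.Agent.H26Misc
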