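/-
The reduced characteristic polynomial of an element of a central simple algebra: degree `n`, and
with the same irreducible factors as the minimal polynomial.
-/
import Groth.Agent.H29CSA.Subfield
import Mathlib.LinearAlgebra.Matrix.Charpoly.Eigs
import Mathlib.LinearAlgebra.Matrix.Charpoly.Minpoly
import Mathlib.FieldTheory.IsAlgClosed.AlgebraicClosure
import Mathlib.Algebra.Polynomial.Lifts
import Mathlib.FieldTheory.IsAlgClosed.Spectrum
import Mathlib.Tactic

set_option autoImplicit false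
universe u v

open Polynomial TensorProduct

namespace Groth.Agent.H26Misc

theorem exists_redCharpoly {K : Type u} [Field K] {A : Type v} [Ring A] [Algebra K A]
    [Algebra.IsCentral K A] [IsSimpleRing A] [FiniteDimensional K A] {n : ℕ}
    (hn : Module.finrank K A = n ^ 2) (x : A) :
    ∃ P : K[X], P.Monic ∧ P.natDegree = n ∧
      ∀ g : K[X], Irreducible g → g ∣ P → g ∣ minpoly K x := by
  classical
  obtain ⟨L, _, _, hLf, hLg, m, hm, ⟨e⟩⟩ := H29CSA.exists_galois_splitting (k := K) A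
  haveI : NeZero m := ⟨hm⟩
  haveI := H29CSA.baseChange_isSimpleRing (k := K) A L
  have hdim := H29CSA.finrank_eq_sq_of_splits A L e
  have hmn : m = n := Nat.pow_left_injective two_ne_zero (hdim.symm.trans hn)
  let ι : A →ₐ[K] Matrix (Fin m) (Fin m) L :=
    (e.toAlgHom.restrictScalars K).comp Algebra.TensorProduct.includeRight
  have hfix : ∀ σ : L ≃ₐ[K] L, (ι x).charpoly.map (σ : L →+* L) = (ι x).charpoly := by
    intro σ
    let fσ : A →ₐ[K] Matrix (Fin m) (Fin m) L := (σ.toAlgHom.mapMatrix).comp ι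
    let ψ : L ⊗[K] A →ₐ[L] Matrix (Fin m) (Fin m) L :=
      Algebra.TensorProduct.lift (Algebra.ofId L _) fσ (fun l a => Algebra.commutes l (fσ a))
    obtain ⟨u, hu⟩ := H29CSA.skolem_noether ψ e.toAlgHom
    have h1 := hu (1 ⊗ₜ[K] x)
    change Algebra.TensorProduct.lift _ _ _ (1 ⊗ₜ[K] x) = _ at h1
    rw [Algebra.TensorProduct.lift_tmul, map_one, one_mul] at h1
    have h2 : (ι x).map (σ : L →+* L) = (u : Matrix (Fin m) (Fin m) L) * ι x * (u⁻¹ : (Matrix (Fin m) (Fin m) L)ˣ) := h1
    rw [← Matrix.charpoly_map, h2, Matrix.charpoly_mul_comm, ← mul_assoc, Units.inv_mul, one_mul]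
  obtain ⟨P, hP, hPd, hPm⟩ := lifts_and_natDegree_eq_and_monic
    ((lifts_iff_coeff_lifts (f := algebraMap K L) _).mpr fun i =>
      (IsGalois.mem_range_algebraMap_iff_fixed (F := K) _).mpr fun σ => by
        conv_rhs => rw [← hfix σ]
        rw [coeff_map]; rfl)
    (Matrix.charpoly_monic (ι x))
  refine ⟨P, hPm, ?_, ?_⟩
  · rw [hPd, Matrix.charpoly_natDegree_eq_dim, Fintype.card_fin, hmn]
  intro g hg hgP
  let Ω := AlgebraicClosure L
  obtain ⟨β, hβ⟩ := IsAlgClosed.exists_root (k := Ω) (g.map (algebraMap K Ω)) (by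
    rw [degree_map]; exact hg.degree_pos.ne')
  have hβ' : aeval β g = 0 := by rwa [IsRoot, eval_map, ← aeval_def] at hβ
  let M : Matrix (Fin m) (Fin m) Ω := (ι x).map (algebraMap L Ω)
  have hMP : M.charpoly = P.map (algebraMap K Ω) := by
    rw [Matrix.charpoly_map, ← hP, Polynomial.map_map, ← IsScalarTower.algebraMap_eq]
  have hβM : β ∈ spectrum Ω M := by
    rw [Matrix.mem_spectrum_iff_isRoot_charpoly, hMP, IsRoot, eval_map, ← aeval_def]
    obtain ⟨c, rfl⟩ := hgP
    rw [map_mul, hβ', zero_mul]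
  let φ : Matrix (Fin m) (Fin m) L →ₐ[K] Matrix (Fin m) (Fin m) Ω :=
    (IsScalarTower.toAlgHom K L Ω).mapMatrix
  have hzero : aeval M ((minpoly K x).map (algebraMap K Ω)) = 0 := by
    rw [aeval_map_algebraMap]
    show aeval (φ (ι x)) (minpoly K x) = 0
    rw [aeval_algHom_apply, aeval_algHom_apply, minpoly.aeval, map_zero, map_zero]
  have h3 := spectrum.subset_polynomial_aeval (𝕜 := Ω) M ((minpoly K x).map (algebraMap K Ω)) ⟨β, hβM, rfl⟩
  haveI : Nonempty (Fin m) := ⟨0⟩
  rw [hzero, spectrum.zero_eq, Set.mem_singleton_iff] at h3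
  simp only [eval_map, ← aeval_def] at h3
  have hmin : g * C g.leadingCoeff⁻¹ = minpoly K β := minpoly.eq_of_irreducible hg hβ'
  exact (dvd_mul_right g _).trans (hmin ▸ minpoly.dvd K β h3)

end Groth.Agent.H26Misc
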