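import Groth.Agent.H26Misc.SigmaLinField
import Groth.Prelude.Def_WittGrp
import Mathlib.FieldTheory.IsAlgClosed.Basic
import Mathlib.FieldTheory.Perfect
import Mathlib.RingTheory.WittVector.Complete
import Mathlib.RingTheory.WittVector.Identities
import Mathlib.LinearAlgebra.Dimension.Finite
import Mathlib.LinearAlgebra.FiniteDimensional.Lemmas
import Mathlib.Algebra.Polynomial.Derivative
import Mathlib.Tactic

/-! Frobenius-semilinear endomorphisms over truncated Witt vectors. -/

namespace Groth.Agent.H26SigmaLin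

open Polynomial

universe u v

section Field

variable {k : Type u} [Field k]

theorem finite_fixed {V : Type v} [AddCommGroup V] [Module k V] [FiniteDimensional k V] (g : k → k)
    (hg : {c : k | g c = c}.Finite) (T : V →+ V) (hT : ∀ (c : k) v, T (c • v) = g c • T v) :
    {v : V | T v = v}.Finite := by
  classical
  obtain ⟨b, hbF, hspan, hind⟩ := exists_linearIndependent k {v : V | T v = v}
  haveI : Fintype b := hind.setFinite.fintype
  haveI : Fintype {c : k | g c = c} := hg.fintype
  refine Set.Finite.subset (Set.finite_range fun f : b → {c : k | g c = c} => ∑ i, (f i : k) • (i : V)) ?_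
  intro w hw
  have hmem : w ∈ Submodule.span k (Set.range fun i : b => (i : V)) := by
    rw [Subtype.range_coe, hspan]; exact Submodule.subset_span hw
  obtain ⟨c, hc⟩ := (Submodule.mem_span_range_iff_exists_fun k).1 hmem
  have hTw : ∑ i, g (c i) • (i : V) = ∑ i, c i • (i : V) := by
    rw [hc]
    conv_rhs => rw [← hw, ← hc, map_sum]
    exact Finset.sum_congr rfl fun i _ => by rw [hT, hbF i.2]
  have h0 := Fintype.linearIndependent_iff.1 hind (fun i => g (c i) - c i)
    (by simp only [sub_smul, Finset.sum_sub_distrib, hTw, sub_self])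
  exact ⟨fun i => ⟨c i, sub_eq_zero.1 (h0 i)⟩, hc⟩

variable [IsAlgClosed k] (p : ℕ) [Fact p.Prime] [CharP k p]

theorem surjective_frob {V : Type v} [AddCommGroup V] [Module k V] [FiniteDimensional k V] (T : V →+ V)
    (hT : ∀ (c : k) v, T (c • v) = c ^ p • T v) (y : V) : ∃ v, T v - v = y := by
  classical
  let w : ℕ → V := fun j => T^[j] y
  obtain ⟨r, hr⟩ : ∃ r : ℕ, w r ∈ Submodule.span k (Set.range fun j : Fin r => w j) := by
    by_contra hc
    push Not at hc
    have hli : ∀ r : ℕ, LinearIndependent k fun j : Fin r => w j := by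
      intro r
      induction r with
      | zero => exact linearIndependent_empty_type
      | succ r ih =>
        rw [linearIndependent_finSucc']
        exact ⟨ih, hc r⟩
    have := (hli (Module.finrank k V + 1)).fintype_card_le_finrank
    simp at this
  obtain ⟨a', ha'⟩ := (Submodule.mem_span_range_iff_exists_fun k).1 hr
  rcases r with _ | r
  · refine ⟨0, ?_⟩
    simp at ha'
    rw [map_zero, sub_zero]
    exact ha'
  let a : ℕ → k := fun j => if h : j < r + 1 then a' ⟨j, h⟩ else 0
  have ha : ∑ j ∈ Finset.range (r + 1), a j • w j = w (r + 1) := by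
    rw [← ha', Finset.sum_range]
    exact Finset.sum_congr rfl fun j _ => by simp only [a]; rw [dif_pos j.2]
  let P : ℕ → k[X] := fun j => Nat.rec (C (a 0) * X ^ p - 1) (fun i Pi => Pi ^ p + C (a (i + 1)) * X ^ p) j
  have hP : ∀ j, derivative (P j) = 0 := by
    intro j
    cases j with
    | zero => simp [P, derivative_X_pow, CharP.cast_eq_zero]
    | succ j => simp [P, derivative_pow, derivative_X_pow, CharP.cast_eq_zero]
  obtain ⟨x, hx⟩ := IsAlgClosed.exists_root (P r - X) (fun h => by
    have h1 : derivative (P r - X) = -1 := by rw [map_sub, hP, derivative_X, zero_sub]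
    rw [eq_C_of_degree_le_zero h.le, derivative_C] at h1
    simp at h1)
  let c : ℕ → k := fun j => (P j).eval x
  have hcr : c r = x := by
    have h := hx
    simp only [IsRoot, eval_sub, eval_X, sub_eq_zero] at h
    exact h
  have hc0 : c 0 = a 0 * x ^ p - 1 := by simp [c, P]
  have hcs : ∀ j, c (j + 1) = c j ^ p + a (j + 1) * x ^ p := fun j => by simp [c, P]
  refine ⟨∑ j ∈ Finset.range (r + 1), c j • w j, ?_⟩
  have hTw : ∀ j, T (w j) = w (j + 1) := fun j => (Function.iterate_succ_apply' T j y).symm
  rw [map_sum, Finset.sum_congr rfl fun j _ => (show T (c j • w j) = c j ^ p • w (j + 1) by rw [hT, hTw]),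
    Finset.sum_range_succ, hcr, ← ha, Finset.smul_sum, ← sub_eq_zero]
  rw [Finset.sum_range_succ' (fun j => x ^ p • a j • w j), Finset.sum_range_succ' (fun j => c j • w j)]
  simp only [smul_smul]
  rw [show w 0 = y from rfl, hc0, Finset.sum_congr rfl fun j _ =>
    (show c (j + 1) • w (j + 1) = c j ^ p • w (j + 1) + (x ^ p * a (j + 1)) • w (j + 1) by
      rw [hcs, add_smul, mul_comm]), Finset.sum_add_distrib, sub_smul, one_smul, mul_comm (a 0)]
  abel

theorem surjective_invFrob : ∀ (d : ℕ) {V : Type v} [AddCommGroup V] [Module k V] [FiniteDimensional k V],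
    Module.finrank k V = d → ∀ (g : k → k), (∀ c, g c ^ p = c) → ∀ (T : V →+ V),
      (∀ (c : k) v, T (c • v) = g c • T v) → ∀ y : V, ∃ v, T v - v = y := by
  classical
  intro d
  induction d using Nat.strong_induction_on with
  | _ d ih =>
    intro V _ _ _ hd g hg T hT y
    have hgs : ∀ c : k, g (c ^ p) = c := fun c => frobenius_inj k p (hg (c ^ p))
    let W : Submodule k V :=
      { carrier := Set.range T
        zero_mem' := ⟨0, map_zero T⟩
        add_mem' := by rintro _ _ ⟨a, rfl⟩ ⟨b, rfl⟩; exact ⟨a + b, map_add T a b⟩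
        smul_mem' := by rintro c _ ⟨a, rfl⟩; exact ⟨c ^ p • a, by rw [hT, hgs]⟩ }
    by_cases hW : W = ⊤
    · let b := Module.finBasis k V
      have hpre : ∀ i, ∃ s, T s = b i := fun i => (show b i ∈ W by rw [hW]; exact Submodule.mem_top)
      choose s hs using hpre
      let S : V →+ V :=
        { toFun := fun v => ∑ i, b.repr v i ^ p • s i
          map_zero' := by simp [zero_pow (Fact.out : p.Prime).ne_zero]
          map_add' := fun u v => by
            rw [← Finset.sum_add_distrib]
            exact Finset.sum_congr rfl fun i _ => by rw [map_add, Finsupp.add_apply, add_pow_char, add_smul] }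
      have hS : ∀ (c : k) v, S (c • v) = c ^ p • S v := fun c v => by
        show ∑ i, b.repr (c • v) i ^ p • s i = c ^ p • ∑ i, b.repr v i ^ p • s i
        rw [Finset.smul_sum]
        exact Finset.sum_congr rfl fun i _ => by rw [map_smul, Finsupp.smul_apply, smul_eq_mul, mul_pow, mul_smul]
      have hTS : ∀ v, T (S v) = v := fun v => by
        show T (∑ i, b.repr v i ^ p • s i) = v
        rw [map_sum]
        conv_rhs => rw [← b.sum_repr v]
        exact Finset.sum_congr rfl fun i _ => by rw [hT, hgs, hs]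
      obtain ⟨v, hv⟩ := surjective_frob p S hS (-y)
      exact ⟨S v, by rw [hTS, ← neg_sub, hv, neg_neg]⟩
    · let T' : W →+ W :=
        { toFun := fun w => ⟨T (w : V), ⟨_, rfl⟩⟩
          map_zero' := Subtype.ext (map_zero T)
          map_add' := fun a b => Subtype.ext (map_add T (a : V) (b : V)) }
      obtain ⟨v, hv⟩ := ih _ (hd ▸ Submodule.finrank_lt hW) (V := W) rfl g hg T'
        (fun c w => Subtype.ext (hT c (w : V))) ⟨T y, ⟨y, rfl⟩⟩
      refine ⟨(v : V) - y, ?_⟩
      have h' : T (v : V) - (v : V) = T y := congrArg Subtype.val hv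
      rw [map_sub, ← h']; abel

end Field

section Witt

variable (p : ℕ) [Fact p.Prime] (k : Type u) [Field k] [CharP k p] [IsAlgClosed k] (n : ℕ)

/-- The residue map of `W_{n+1}(k)`. -/
noncomputable def res : TruncatedWittVector p (n + 1) k →+* k where
  toFun x := x.coeff 0
  map_one' := by
    rw [← map_one (WittVector.truncate (p := p) (R := k) (n + 1)), WittVector.coeff_truncate]
    exact WittVector.one_coeff_zero p k
  map_zero' := TruncatedWittVector.coeff_zero p n.succ k 0
  map_mul' x y := by
    obtain ⟨X, rfl⟩ := WittVector.truncate_surjective p (n + 1) k x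
    obtain ⟨Y, rfl⟩ := WittVector.truncate_surjective p (n + 1) k y
    rw [← map_mul]
    simp only [WittVector.coeff_truncate, Fin.val_zero]
    exact WittVector.mul_coeff_zero X Y
  map_add' x y := by
    obtain ⟨X, rfl⟩ := WittVector.truncate_surjective p (n + 1) k x
    obtain ⟨Y, rfl⟩ := WittVector.truncate_surjective p (n + 1) k y
    rw [← map_add]
    simp only [WittVector.coeff_truncate, Fin.val_zero]
    exact WittVector.add_coeff_zero X Y

theorem res_apply (x : TruncatedWittVector p (n + 1) k) : res p k n x = x.coeff 0 := rfl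

theorem res_surjective : Function.Surjective (res p k n) := fun c =>
  ⟨TruncatedWittVector.mk p fun _ => c, by rw [res_apply, TruncatedWittVector.coeff_mk]⟩

theorem res_truncMap (f : k →+* k) (x : TruncatedWittVector p (n + 1) k) :
    res p k n (WittGrp.truncMap p (n + 1) f x) = f (res p k n x) := by
  rw [res_apply, res_apply]
  exact TruncatedWittVector.coeff_mk _ _

theorem exists_eq_p_mul {x : TruncatedWittVector p (n + 1) k} (h : res p k n x = 0) :
    ∃ y, x = (p : TruncatedWittVector p (n + 1) k) * y := by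
  obtain ⟨X, rfl⟩ := WittVector.truncate_surjective p (n + 1) k x
  rw [res_apply, WittVector.coeff_truncate] at h
  obtain ⟨Y, rfl⟩ := Ideal.mem_span_singleton'.1 ((WittVector.mem_span_p_iff_coeff_zero_eq_zero X).2 h)
  exact ⟨WittVector.truncate (n + 1) Y, by rw [map_mul, map_natCast, mul_comm]⟩

theorem p_pow_eq_zero : (p : TruncatedWittVector p (n + 1) k) ^ (n + 1) = 0 := by
  rw [← map_natCast (WittVector.truncate (p := p) (R := k) (n + 1)), ← map_pow]
  refine TruncatedWittVector.ext fun i => ?_
  rw [WittVector.coeff_truncate, TruncatedWittVector.coeff_zero]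
  exact WittVector.coeff_p_pow_eq_zero (p := p) (R := k) (i := n + 1) (by omega)

theorem res_sigma {σ : TruncatedWittVector p (n + 1) k →+* TruncatedWittVector p (n + 1) k}
    (hσ : σ = WittGrp.truncMap p (n + 1) (frobenius k p) ∨
      σ = WittGrp.truncMap p (n + 1) (frobeniusEquiv k p).symm.toRingHom) :
    ∃ g : k → k, ((∀ c, g c = c ^ p) ∨ (∀ c, g c ^ p = c)) ∧ ∀ x, res p k n (σ x) = g (res p k n x) := by
  rcases hσ with rfl | rfl
  · exact ⟨fun c => c ^ p, Or.inl fun c => rfl, fun x => res_truncMap p k n _ x⟩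
  · exact ⟨fun c => (frobeniusEquiv k p).symm c, Or.inr fun c => by simp,
      fun x => res_truncMap p k n _ x⟩

/-- Both statements for a module killed by `p`. -/
theorem of_killed {σ : TruncatedWittVector p (n + 1) k →+* TruncatedWittVector p (n + 1) k}
    (hσ : σ = WittGrp.truncMap p (n + 1) (frobenius k p) ∨
      σ = WittGrp.truncMap p (n + 1) (frobeniusEquiv k p).symm.toRingHom)
    (Q : Type v) [AddCommGroup Q] [Module (TruncatedWittVector p (n + 1) k) Q]
    [Module.Finite (TruncatedWittVector p (n + 1) k) Q]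
    (hQ : ∀ q : Q, (p : TruncatedWittVector p (n + 1) k) • q = 0) (T : Q →ₛₗ[σ] Q) :
    {q : Q | T q = q}.Finite ∧ ∀ y : Q, ∃ q, T q - q = y := by
  classical
  choose sec hsec using res_surjective p k n
  letI : SMul k Q := ⟨fun c q => sec c • q⟩
  have hsmul : ∀ (r : TruncatedWittVector p (n + 1) k) (q : Q), res p k n r • q = r • q := fun r q => by
    show sec (res p k n r) • q = r • q
    obtain ⟨y, hy⟩ := exists_eq_p_mul p k n (x := sec (res p k n r) - r) (by rw [map_sub, hsec, sub_self])
    rw [← sub_eq_zero, ← sub_smul, hy, mul_smul, hQ]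
  letI : Module k Q := Function.Surjective.moduleLeft (res p k n) (res_surjective p k n) hsmul
  haveI : FiniteDimensional k Q := by
    obtain ⟨S, hS⟩ := (inferInstance : Module.Finite (TruncatedWittVector p (n + 1) k) Q).fg_top
    refine ⟨⟨S, eq_top_iff.2 fun q hq' => ?_⟩⟩
    clear hq'
    have hq : q ∈ Submodule.span (TruncatedWittVector p (n + 1) k) (S : Set Q) := hS ▸ Submodule.mem_top
    induction hq using Submodule.span_induction with
    | mem x hx => exact Submodule.subset_span hx
    | zero => exact zero_mem _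
    | add a b _ _ ha hb => exact add_mem ha hb
    | smul r a _ ha => rw [← hsmul]; exact Submodule.smul_mem _ _ ha
  obtain ⟨g, hg, hgσ⟩ := res_sigma p k n hσ
  have hT : ∀ (c : k) q, T.toAddMonoidHom (c • q) = g c • T.toAddMonoidHom q := fun c q => by
    obtain ⟨r, rfl⟩ := res_surjective p k n c
    show T (res p k n r • q) = g (res p k n r) • T q
    rw [hsmul, ← hgσ, hsmul, map_smulₛₗ]
  constructor
  · refine finite_fixed g ?_ T.toAddMonoidHom hT
    have hp := (Fact.out : p.Prime)
    refine Set.Finite.subset ((X ^ p - X : k[X]).roots.toFinset.finite_toSet) fun c hc => ?_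
    have hc' : g c = c := hc
    have hcp : c ^ p = c := by
      rcases hg with hg | hg
      · rw [← hg]; exact hc'
      · conv_lhs => rw [← hc']
        exact hg c
    simp only [Finset.mem_coe, Multiset.mem_toFinset, mem_roots (FiniteField.X_pow_card_sub_X_ne_zero k hp.one_lt),
      IsRoot, eval_sub, eval_pow, eval_X, hcp, sub_self]
  · intro y
    rcases hg with hg | hg
    · exact surjective_frob p T.toAddMonoidHom (fun c q => by rw [hT, hg]) y
    · exact surjective_invFrob p _ (V := Q) rfl g hg T.toAddMonoidHom hT y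

variable {σ : TruncatedWittVector p (n + 1) k →+* TruncatedWittVector p (n + 1) k}
    (hσ : σ = WittGrp.truncMap p (n + 1) (frobenius k p) ∨
      σ = WittGrp.truncMap p (n + 1) (frobeniusEquiv k p).symm.toRingHom)
    (M : Type v) [AddCommGroup M] [Module (TruncatedWittVector p (n + 1) k) M]
    [Module.Finite (TruncatedWittVector p (n + 1) k) M] (T : M →ₛₗ[σ] M)

/-- `p ^ i M`. -/
noncomputable def filt (i : ℕ) : Submodule (TruncatedWittVector p (n + 1) k) M :=
  LinearMap.range ((p : TruncatedWittVector p (n + 1) k) ^ i • (LinearMap.id : M →ₗ[TruncatedWittVector p (n + 1) k] M))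

theorem mem_filt {i : ℕ} {m : M} : m ∈ filt p k n M i ↔ ∃ z, (p : TruncatedWittVector p (n + 1) k) ^ i • z = m := by
  simp [filt]

theorem T_filt (i : ℕ) : filt p k n M i ≤ (filt p k n M i).comap T := fun m hm => by
  obtain ⟨z, rfl⟩ := (mem_filt p k n M).1 hm
  refine (mem_filt p k n M).2 ⟨T z, ?_⟩
  rw [map_smulₛₗ, map_pow, map_natCast]

include hσ in
theorem surjective : Function.Surjective fun m : M => T m - m := by
  have main : ∀ j i : ℕ, i + j = n + 1 → ∀ y ∈ filt p k n M i, ∃ m, T m - m = y := by
    intro j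
    induction j with
    | zero =>
      intro i hi y hy
      obtain ⟨z, rfl⟩ := (mem_filt p k n M).1 hy
      refine ⟨0, ?_⟩
      rw [show i = n + 1 by omega, p_pow_eq_zero, zero_smul, map_zero, sub_zero]
    | succ j ih =>
      intro i hi y hy
      obtain ⟨y₀, rfl⟩ := (mem_filt p k n M).1 hy
      obtain ⟨q, hq⟩ := (of_killed p k n hσ (M ⧸ filt p k n M 1) (fun q => by
        obtain ⟨m, rfl⟩ := Submodule.Quotient.mk_surjective _ q
        rw [← Submodule.Quotient.mk_smul, Submodule.Quotient.mk_eq_zero]
        exact (mem_filt p k n M).2 ⟨m, by rw [pow_one]⟩) (Submodule.mapQ _ _ T (T_filt p k n M T 1))).2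
        (Submodule.Quotient.mk y₀)
      obtain ⟨m₀, rfl⟩ := Submodule.Quotient.mk_surjective _ q
      rw [Submodule.mapQ_apply, ← Submodule.Quotient.mk_sub, Submodule.Quotient.eq] at hq
      obtain ⟨z, hz⟩ := (mem_filt p k n M).1 hq
      obtain ⟨m₁, hm₁⟩ := ih (i + 1) (by omega) ((p : TruncatedWittVector p (n + 1) k) ^ (i + 1) • -z)
        ((mem_filt p k n M).2 ⟨_, rfl⟩)
      refine ⟨(p : TruncatedWittVector p (n + 1) k) ^ i • m₀ + m₁, ?_⟩
      rw [map_add, map_smulₛₗ, map_pow, map_natCast, add_sub_add_comm, hm₁, ← smul_sub, pow_succ, mul_smul,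
        ← smul_add, smul_neg]
      congr 1
      rw [pow_one] at hz
      rw [hz]; abel
  intro y
  exact main (n + 1) 0 (zero_add _) y ((mem_filt p k n M).2 ⟨y, by rw [pow_zero, one_smul]⟩)

include hσ in
theorem finite : {m : M | T m = m}.Finite := by
  have main : ∀ j i : ℕ, i + j = n + 1 → {m : M | m ∈ filt p k n M i ∧ T m = m}.Finite := by
    intro j
    induction j with
    | zero =>
      intro i hi
      refine Set.Finite.subset (Set.finite_singleton 0) fun m hm => ?_
      obtain ⟨z, rfl⟩ := (mem_filt p k n M).1 hm.1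
      rw [show i = n + 1 by omega, p_pow_eq_zero, zero_smul]; rfl
    | succ j ih =>
      intro i hi
      let F : Submodule (TruncatedWittVector p (n + 1) k) M := filt p k n M (i + 1)
      let T₁ : M ⧸ F →ₛₗ[σ] M ⧸ F := Submodule.mapQ _ _ T (T_filt p k n M T (i + 1))
      let N : Submodule (TruncatedWittVector p (n + 1) k) (M ⧸ F) := (filt p k n M i).map F.mkQ
      have hN : ∀ q ∈ N, T₁ q ∈ N := by
        rintro _ ⟨m, hm, rfl⟩
        exact ⟨T m, T_filt p k n M T i hm, rfl⟩
      let T₂ : N →ₛₗ[σ] N := (T₁.comp N.subtype).codRestrict N fun q => hN _ q.2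
      haveI : Module.Finite (TruncatedWittVector p (n + 1) k) N := by
        refine Module.Finite.of_surjective
          ((F.mkQ ∘ₗ ((p : TruncatedWittVector p (n + 1) k) ^ i • (LinearMap.id : M →ₗ[TruncatedWittVector p (n + 1) k] M))).codRestrict N
            fun m => ⟨_, (mem_filt p k n M).2 ⟨m, rfl⟩, rfl⟩) ?_
        rintro ⟨_, m, hm, rfl⟩
        obtain ⟨z, rfl⟩ := (mem_filt p k n M).1 hm
        exact ⟨z, rfl⟩
      have hfin := (of_killed p k n hσ N (fun q => by
        obtain ⟨_, m, hm, rfl⟩ := q
        obtain ⟨z, rfl⟩ := (mem_filt p k n M).1 hm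
        refine Subtype.ext ?_
        show (p : TruncatedWittVector p (n + 1) k) • F.mkQ _ = 0
        rw [← map_smul, Submodule.mkQ_apply, Submodule.Quotient.mk_eq_zero, smul_smul, ← pow_succ']
        exact (mem_filt p k n M).2 ⟨z, rfl⟩) T₂).1
      refine Set.Finite.of_finite_fibers F.mkQ ((hfin.image Subtype.val).subset ?_) ?_
      · rintro _ ⟨m, ⟨hm, hTm⟩, rfl⟩
        exact ⟨⟨F.mkQ m, m, hm, rfl⟩, Subtype.ext (congrArg F.mkQ hTm), rfl⟩
      · rintro _ ⟨m₀, ⟨-, hT₀⟩, rfl⟩
        refine ((ih (i + 1) (by omega)).image fun d => m₀ + d).subset ?_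
        rintro m ⟨⟨-, hTm⟩, hmm⟩
        refine ⟨m - m₀, ⟨?_, by rw [map_sub, hTm, hT₀]⟩, add_sub_cancel m₀ m⟩
        exact (Submodule.Quotient.eq F).1 hmm
  refine (main (n + 1) 0 (zero_add _)).subset fun m hm => ⟨(mem_filt p k n M).2 ⟨m, by rw [pow_zero, one_smul]⟩, hm⟩

end Witt

end Groth.Agent.H26SigmaLin
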