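import Mathlib.LinearAlgebra.FiniteDimensional.Basic
import Mathlib.LinearAlgebra.Dimension.StrongRankCondition
import Mathlib.LinearAlgebra.FiniteDimensional.Lemmas
import Mathlib.LinearAlgebra.Dimension.OrzechProperty
import Mathlib.Tactic

/-!
Semilinear endomorphisms of finite dimensional vector spaces (Lang / Dieudonné style lemmas).
-/

set_option autoImplicit false
universe u v

namespace Groth.Agent.H26Misc

variable {k : Type u} [Field k] {σ : k →+* k}
  {V : Type v} [AddCommGroup V] [Module k V]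

/-- The span of the image of the `n`-th iterate. -/
def iterSpan (T : V →ₛₗ[σ] V) (n : ℕ) : Submodule k V :=
  Submodule.span k (Set.range ((⇑T)^[n]))

theorem iterSpan_antitone (T : V →ₛₗ[σ] V) : Antitone (iterSpan T) := by
  refine antitone_nat_of_succ_le fun n => Submodule.span_mono ?_
  rintro _ ⟨v, rfl⟩
  exact ⟨T v, by rw [Function.iterate_succ_apply]⟩

theorem map_mem_iterSpan_succ (T : V →ₛₗ[σ] V) {n : ℕ} {v : V} (hv : v ∈ iterSpan T n) :
    T v ∈ iterSpan T (n + 1) := by
  induction hv using Submodule.span_induction with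
  | mem x hx =>
    obtain ⟨w, rfl⟩ := hx
    exact Submodule.subset_span ⟨w, by rw [Function.iterate_succ_apply']⟩
  | zero => simp
  | add x y _ _ hx hy => rw [map_add]; exact add_mem hx hy
  | smul c x _ hx => rw [LinearMap.map_smulₛₗ]; exact Submodule.smul_mem _ _ hx

theorem iterSpan_succ_eq (T : V →ₛₗ[σ] V) (n : ℕ) :
    iterSpan T (n + 1) = Submodule.span k (T '' (iterSpan T n : Set V)) := by
  refine le_antisymm (Submodule.span_mono ?_) (Submodule.span_le.mpr ?_)
  · rintro _ ⟨v, rfl⟩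
    exact ⟨(⇑T)^[n] v, Submodule.subset_span ⟨v, rfl⟩, by rw [Function.iterate_succ_apply']⟩
  · rintro _ ⟨x, hx, rfl⟩
    exact map_mem_iterSpan_succ T hx

theorem exists_iterSpan_stable [FiniteDimensional k V] (T : V →ₛₗ[σ] V) :
    ∃ N, ∀ n, N ≤ n → iterSpan T n = iterSpan T N := by
  obtain ⟨N, hN⟩ := IsArtinian.monotone_stabilizes (R := k) (M := V)
    ⟨fun n => OrderDual.toDual (iterSpan T n), fun _ _ h => iterSpan_antitone T h⟩
  exact ⟨N, fun n hn => (congrArg OrderDual.ofDual (hN n hn)).symm⟩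

theorem iInf_iterSpan_eq (T : V →ₛₗ[σ] V) {N : ℕ}
    (hN : ∀ n, N ≤ n → iterSpan T n = iterSpan T N) : (⨅ n, iterSpan T n) = iterSpan T N := by
  refine le_antisymm (iInf_le _ N) (le_iInf fun n => ?_)
  rcases le_total N n with h | h
  · rw [hN n h]
  · exact iterSpan_antitone T h

/-- A semilinear map whose image spans is injective. -/
theorem injective_of_span_range_eq_top [FiniteDimensional k V] (T : V →ₛₗ[σ] V)
    (h : Submodule.span k (Set.range T) = ⊤) : Function.Injective T := by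
  let b := Module.finBasis k V
  have hsp : Submodule.span k (Set.range fun i => T (b i)) = ⊤ := by
    rw [eq_top_iff, ← h, Submodule.span_le]
    rintro _ ⟨x, rfl⟩
    rw [← b.sum_repr x, map_sum]
    refine Submodule.sum_mem _ fun i _ => ?_
    rw [LinearMap.map_smulₛₗ]
    exact Submodule.smul_mem _ _ (Submodule.subset_span ⟨i, rfl⟩)
  have hli : LinearIndependent k fun i => T (b i) :=
    linearIndependent_of_top_le_span_of_card_eq_finrank hsp.ge (Fintype.card_fin _)

  rw [injective_iff_map_eq_zero]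
  intro x hx
  rw [← b.sum_repr x, map_sum] at hx
  simp only [LinearMap.map_smulₛₗ] at hx
  have h0 := Fintype.linearIndependent_iff.mp hli _ hx
  rw [← b.sum_repr x]
  refine Finset.sum_eq_zero fun i _ => ?_
  rw [σ.injective ((h0 i).trans (map_zero σ).symm), zero_smul]

/-- A nonzero orbit contains a fixed vector in its span, if the twisted polynomial equations are solvable. -/
theorem exists_fixed_in_orbit_span [FiniteDimensional k V] (T : V →ₛₗ[σ] V)
    (h2 : ∀ (n : ℕ) (b : Fin (n + 1) → k), b ≠ 0 →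
      ∃ x : k, x ≠ 0 ∧ x = ∑ i : Fin (n + 1), (⇑σ)^[i.val + 1] x * (⇑σ)^[i.val] (b (Fin.rev i)))
    (e : V) (he : ∀ m : ℕ, (⇑T)^[m] e ≠ 0) :
    ∃ v ∈ Submodule.span k (Set.range (fun m : ℕ => (⇑T)^[m] e)), v ≠ 0 ∧ T v = v := by
  classical
  set f : ℕ → V := fun m => (⇑T)^[m] e with hf
  have hex : ∃ m, ¬ LinearIndependent k (fun i : Fin m => f i) := by
    refine ⟨Module.finrank k V + 1, fun h => ?_⟩
    have := h.fintype_card_le_finrank
    simp at this
  let m := Nat.find hex
  have hm : ¬ LinearIndependent k (fun i : Fin m => f i) := Nat.find_spec hex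
  have hm0 : m ≠ 0 := fun h0 => hm (by
    rw [Fintype.linearIndependent_iff]
    rintro g - ⟨i, hi⟩
    exact absurd hi (by rw [h0]; exact Nat.not_lt_zero i))
  have hm1 : m ≠ 1 := fun h1 => hm (by
    rw [Fintype.linearIndependent_iff]
    intro g hg i
    have hi : i = ⟨0, by omega⟩ := Fin.ext (by have := i.2; omega)
    rw [Fintype.sum_eq_single i (fun j hj => absurd (Fin.ext (by have := i.2; have := j.2; omega)) hj)] at hg
    rw [hi] at hg ⊢
    exact (smul_eq_zero.mp hg).resolve_right (he 0))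
  obtain ⟨n, hn⟩ : ∃ n, m = n + 2 := ⟨m - 2, by omega⟩
  have hli : LinearIndependent k (fun i : Fin (n + 1) => f i) := by
    by_contra h
    exact Nat.find_min hex (show n + 1 < m by omega) h
  have hmem : f (n + 1) ∈ Submodule.span k (Set.range fun i : Fin (n + 1) => f i) := by
    by_contra h
    refine hm ?_
    rw [hn]
    have hls := linearIndependent_finSnoc.mpr ⟨hli, h⟩
    convert hls using 1
    funext i
    refine Fin.lastCases ?_ (fun j => ?_) i
    · rw [Fin.snoc_last]; rfl
    · rw [Fin.snoc_castSucc]; rfl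
  obtain ⟨b, hb⟩ := (Submodule.mem_span_range_iff_exists_fun k).mp hmem
  have hb0 : b ≠ 0 := by
    rintro rfl
    simp at hb
    exact he _ hb.symm
  obtain ⟨x, hx0, hx⟩ := h2 n b hb0
  -- coefficients
  let c : ℕ → k := fun i => ∑ j ∈ Finset.range (i + 1),
    (⇑σ)^[j + 1] x * (⇑σ)^[j] (if h : i - j < n + 1 then b ⟨i - j, h⟩ else 0)
  let B : ℕ → k := fun i => if h : i < n + 1 then b ⟨i, h⟩ else 0
  have hc : ∀ i, c (i + 1) = σ x * B (i + 1) + σ (c i) := by
    intro i
    simp only [c, B, Finset.sum_range_succ' _ (i + 1), map_sum, map_mul, ← Function.iterate_succ_apply' (⇑σ),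
      Nat.succ_eq_add_one, Nat.add_sub_add_right, Nat.sub_zero, Function.iterate_zero, id_eq]
    rw [add_comm]; rfl
  have hc0 : c 0 = σ x * B 0 := by simp [c, B]
  have hcn : c n = x := by
    conv_rhs => rw [hx]
    simp only [c]
    rw [← Fin.sum_univ_eq_sum_range (fun j => (⇑σ)^[j + 1] x * (⇑σ)^[j] (if h : n - j < n + 1 then b ⟨n - j, h⟩ else 0))]
    refine Finset.sum_congr rfl fun i _ => ?_
    rw [dif_pos (by omega), show (⟨n - (i : ℕ), by omega⟩ : Fin (n + 1)) = Fin.rev i from
      Fin.ext (by rw [Fin.val_rev]; simp only []; omega)]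
  refine ⟨∑ i : Fin (n + 1), c i • f i, Submodule.sum_mem _ fun i _ =>
    Submodule.smul_mem _ _ (Submodule.subset_span ⟨i, rfl⟩), ?_, ?_⟩
  · intro h0
    have := Fintype.linearIndependent_iff.mp hli _ h0 ⟨n, Nat.lt_succ_self n⟩
    exact hx0 (hcn ▸ this)
  · have hfs : ∀ i, T (f i) = f (i + 1) := fun i => by simp only [hf, Function.iterate_succ_apply']
    have hb' : f (n + 1) = ∑ i ∈ Finset.range (n + 1), B i • f i := by
      rw [← hb, ← Fin.sum_univ_eq_sum_range (fun i => B i • f i)]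
      exact Finset.sum_congr rfl fun i _ => by simp only [B, dif_pos i.2]
    rw [Fin.sum_univ_eq_sum_range (fun i => c i • f i), map_sum]
    simp only [LinearMap.map_smulₛₗ, hfs]
    rw [Finset.sum_range_succ, hcn, hb', Finset.smul_sum, Finset.sum_range_succ' (fun i => c i • f i),
      Finset.sum_range_succ' (fun i => σ x • B i • f i), ← add_assoc, ← Finset.sum_add_distrib]
    congr 1
    · refine Finset.sum_congr rfl fun i _ => ?_
      rw [hc, smul_smul, ← add_smul, add_comm]
    · rw [hc0, smul_smul]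

/-- Lang's theorem for semilinear maps with spanning image. -/
theorem fixed_span_eq_top [FiniteDimensional k V] (T : V →ₛₗ[σ] V)
    (h1 : Submodule.span k (Set.range ⇑T) = ⊤)
    (h2 : ∀ (n : ℕ) (b : Fin (n + 1) → k), b ≠ 0 →
      ∃ x : k, x ≠ 0 ∧ x = ∑ i : Fin (n + 1), (⇑σ)^[i.val + 1] x * (⇑σ)^[i.val] (b (Fin.rev i)))
    (h3 : ∀ c : k, ∃ y : k, σ y - y + c = 0) :
    Submodule.span k {v : V | T v = v} = ⊤ := by
  set U := Submodule.span k {v : V | T v = v} with hU
  have hmap : U ≤ U.comap T := by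
    rw [hU, Submodule.span_le]
    intro v hv
    show T v ∈ U
    rw [hv]; exact Submodule.subset_span hv
  by_contra hne
  obtain ⟨w, -, hw⟩ := SetLike.exists_of_lt (lt_top_iff_ne_top.mpr hne)
  let T' : (V ⧸ U) →ₛₗ[σ] (V ⧸ U) := U.mapQ U T hmap
  have h1' : Submodule.span k (Set.range ⇑T') = ⊤ := by
    rw [eq_top_iff]
    rintro q -
    obtain ⟨z, rfl⟩ := U.mkQ_surjective q
    have hz : z ∈ Submodule.span k (Set.range ⇑T) := h1 ▸ Submodule.mem_top
    have := Submodule.mem_map_of_mem (f := U.mkQ) hz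
    rw [Submodule.map_span, ← Set.range_comp] at this
    refine Submodule.span_mono ?_ this
    rintro _ ⟨y, rfl⟩
    exact ⟨U.mkQ y, by simp [T']⟩
  have hinj := injective_of_span_range_eq_top T' h1'
  have he : ∀ m : ℕ, (⇑T')^[m] (U.mkQ w) ≠ 0 := by
    intro m
    rw [← Function.iterate_fixed (map_zero T') m]
    intro h
    have := hinj.iterate m h
    rw [Submodule.mkQ_apply, Submodule.Quotient.mk_eq_zero] at this
    exact hw this
  obtain ⟨q, -, hq0, hqf⟩ := exists_fixed_in_orbit_span T' h2 _ he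
  obtain ⟨v, rfl⟩ := U.mkQ_surjective q
  have hu : T v - v ∈ U := by
    rw [← Submodule.Quotient.mk_eq_zero, Submodule.Quotient.mk_sub, sub_eq_zero]
    simpa [T'] using hqf
  have hy : ∀ u ∈ U, ∃ y ∈ U, T y - y + u = 0 := by
    intro u hu
    induction hu using Submodule.span_induction with
    | mem x hx =>
      obtain ⟨y, hy⟩ := h3 1
      refine ⟨y • x, Submodule.smul_mem _ _ (Submodule.subset_span hx), ?_⟩
      rw [LinearMap.map_smulₛₗ, hx]
      linear_combination (norm := module) hy • x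
    | zero => exact ⟨0, zero_mem _, by simp⟩
    | add a b _ _ ha hb =>
      obtain ⟨y, hy, e⟩ := ha
      obtain ⟨z, hz, e'⟩ := hb
      refine ⟨y + z, add_mem hy hz, ?_⟩
      rw [map_add]; linear_combination (norm := abel) e + e'
    | smul c a hamem _ =>
      obtain ⟨g, hg, rfl⟩ : ∃ g : V →₀ k, (↑g.support ⊆ {v : V | T v = v}) ∧ g.sum (fun v r => r • v) = a := by
        obtain ⟨g, hg, hg'⟩ := Submodule.mem_span_set.mp hamem
        exact ⟨g, hg, hg'⟩
      choose y hy using fun r => h3 r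
      refine ⟨∑ x ∈ g.support, y (c * g x) • x,
        Submodule.sum_mem _ fun x hx => Submodule.smul_mem _ _ (Submodule.subset_span (hg hx)), ?_⟩
      rw [Finsupp.sum, Finset.smul_sum, map_sum, ← Finset.sum_sub_distrib, ← Finset.sum_add_distrib]
      refine Finset.sum_eq_zero fun x hx => ?_
      rw [LinearMap.map_smulₛₗ, show T x = x from hg hx, smul_smul, ← sub_smul, ← add_smul, hy, zero_smul]
  obtain ⟨y, hyU, hye⟩ := hy _ hu
  have hfix : T (v + y) = v + y := by
    rw [map_add]; linear_combination (norm := abel) hye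
  refine hq0 ?_
  rw [Submodule.mkQ_apply, Submodule.Quotient.mk_eq_zero]
  simpa using sub_mem (Submodule.subset_span (show v + y ∈ {v : V | T v = v} from hfix) : v + y ∈ U) hyU

theorem exists_fixed_basis [FiniteDimensional k V] (T : V →ₛₗ[σ] V)
    (h1 : Submodule.span k (Set.range ⇑T) = ⊤)
    (h2 : ∀ (n : ℕ) (b : Fin (n + 1) → k), b ≠ 0 →
      ∃ x : k, x ≠ 0 ∧ x = ∑ i : Fin (n + 1), (⇑σ)^[i.val + 1] x * (⇑σ)^[i.val] (b (Fin.rev i)))
    (h3 : ∀ c : k, ∃ y : k, σ y - y + c = 0) :
    ∃ b : Module.Basis (Fin (Module.finrank k V)) k V, ∀ i, T (b i) = b i := by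
  obtain ⟨s, hs, hsp, hli⟩ := exists_linearIndependent k {v : V | T v = v}
  rw [fixed_span_eq_top T h1 h2 h3] at hsp
  have : Fintype s := hli.setFinite.fintype
  let b₀ : Module.Basis s k V := Module.Basis.mk hli (by rw [Subtype.range_coe]; exact hsp.ge)
  let b := b₀.reindex ((Fintype.equivFin s).trans (finCongr (Module.finrank_eq_card_basis b₀).symm))
  refine ⟨b, fun i => ?_⟩
  have : b i = ((((Fintype.equivFin s).trans (finCongr (Module.finrank_eq_card_basis b₀).symm)).symm i : s) : V) := by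
    simp [b, b₀]
  rw [this]
  exact hs (Subtype.coe_prop _)

theorem sub_surjective_of_fixed_basis {ι : Type*} [Fintype ι] (T : V →ₛₗ[σ] V)
    (b : Module.Basis ι k V) (hb : ∀ i, T (b i) = b i)
    (h3 : ∀ c : k, ∃ y : k, σ y - y + c = 0) : Function.Surjective (fun v : V => v - T v) := by
  intro w
  choose y hy using h3
  refine ⟨∑ i, y (b.repr w i) • b i, ?_⟩
  show _ - _ = _
  conv_rhs => rw [← b.sum_repr w]
  rw [map_sum, ← Finset.sum_sub_distrib]
  refine Finset.sum_congr rfl fun i _ => ?_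
  rw [LinearMap.map_smulₛₗ, hb, ← sub_smul]
  congr 1
  linear_combination -(hy (b.repr w i))

section Surj

variable [FiniteDimensional k V] (hσ : Function.Surjective σ) (T : V →ₛₗ[σ] V)

include hσ in
theorem mem_range_iterate (n : ℕ) {v : V} (hv : v ∈ iterSpan T n) : ∃ w, (⇑T)^[n] w = v := by
  induction n generalizing v with
  | zero => exact ⟨v, rfl⟩
  | succ n ih =>
    rw [iterSpan_succ_eq] at hv
    induction hv using Submodule.span_induction with
    | mem x hx =>
      obtain ⟨y, hy, rfl⟩ := hx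
      obtain ⟨w, rfl⟩ := ih hy
      exact ⟨w, by rw [Function.iterate_succ_apply']⟩
    | zero => exact ⟨0, iterate_map_zero T _⟩
    | add a b _ _ ha hb =>
      obtain ⟨w, hw⟩ := ha
      obtain ⟨w', hw'⟩ := hb
      exact ⟨w + w', by rw [iterate_map_add T, hw, hw']⟩
    | smul c a _ ha =>
      obtain ⟨w, hw⟩ := ha
      obtain ⟨d, hd⟩ := Function.Surjective.iterate hσ (n + 1) c
      refine ⟨d • w, ?_⟩
      have : ∀ m, (⇑T)^[m] (d • w) = (⇑σ)^[m] d • (⇑T)^[m] w := by
        intro m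
        induction m with
        | zero => rfl
        | succ m ihm => simp only [Function.iterate_succ_apply', ihm, LinearMap.map_smulₛₗ]
      rw [this, hd, hw]

/-- The stable image. -/
def ssPart (T : V →ₛₗ[σ] V) : Submodule k V := ⨅ n : ℕ, iterSpan T n

theorem map_mem_ssPart {v : V} (hv : v ∈ ssPart T) : T v ∈ ssPart T := by
  rw [ssPart, Submodule.mem_iInf] at hv ⊢
  exact fun n => iterSpan_antitone T (Nat.le_succ n) (map_mem_iterSpan_succ T (hv n))

/-- The restriction to the stable image. -/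
def ssMap : ssPart T →ₛₗ[σ] ssPart T where
  toFun v := ⟨T v, map_mem_ssPart T v.2⟩
  map_add' _ _ := Subtype.ext (map_add T _ _)
  map_smul' _ _ := Subtype.ext (LinearMap.map_smulₛₗ T _ _)

@[simp] theorem ssMap_coe (v : ssPart T) : ((ssMap T v : ssPart T) : V) = T v := rfl

theorem span_range_ssMap : Submodule.span k (Set.range (ssMap T)) = ⊤ := by
  obtain ⟨N, hN⟩ := exists_iterSpan_stable T
  have e : ssPart T = iterSpan T N := iInf_iterSpan_eq T hN
  apply Submodule.map_injective_of_injective (f := (ssPart T).subtype) Subtype.coe_injective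
  rw [Submodule.map_subtype_top, Submodule.map_span, ← Set.range_comp]
  conv_rhs => rw [e, ← hN (N + 1) (Nat.le_succ N), iterSpan_succ_eq, ← e]
  congr 1
  ext x
  simp

include hσ in
theorem fitting : IsCompl
    (⨆ n : ℕ, Submodule.span k {v : V | (⇑T)^[n] v = 0}) (ssPart T) ∧
    (∀ v, v ∈ (⨆ n : ℕ, Submodule.span k {v : V | (⇑T)^[n] v = 0}) ↔ ∃ n, (⇑T)^[n] v = 0) ∧
    Set.BijOn (⇑T) (ssPart T : Set V) (ssPart T : Set V) := by
  obtain ⟨N, hN⟩ := exists_iterSpan_stable T
  have e : ssPart T = iterSpan T N := iInf_iterSpan_eq T hN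
  have hinj : Function.Injective (ssMap T) := injective_of_span_range_eq_top _ (span_range_ssMap T)
  have hz : ∀ (n : ℕ) (v : V), v ∈ ssPart T → (⇑T)^[n] v = 0 → v = 0 := by
    intro n
    induction n with
    | zero => exact fun v _ h => h
    | succ n ih =>
      intro v hv h
      rw [Function.iterate_succ_apply] at h
      have := ih _ (map_mem_ssPart T hv) h
      exact congrArg Subtype.val (hinj (a₁ := ⟨v, hv⟩) (a₂ := 0) (Subtype.ext (by simpa using this)))
  have hsurj : ∀ v ∈ ssPart T, ∃ w ∈ ssPart T, T w = v := by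
    intro v hv
    rw [e, ← hN (N + 1) (Nat.le_succ N)] at hv
    obtain ⟨w, hw⟩ := mem_range_iterate hσ T _ hv
    refine ⟨(⇑T)^[N] w, ?_, (Function.iterate_succ_apply' (⇑T) N w).symm.trans hw⟩
    rw [e]; exact Submodule.subset_span ⟨w, rfl⟩
  let K : ℕ → Submodule k V := fun n =>
    { carrier := {v | (⇑T)^[n] v = 0}
      zero_mem' := iterate_map_zero T _
      add_mem' := fun {a b} (ha : (⇑T)^[n] a = 0) (hb : (⇑T)^[n] b = 0) => by
        show (⇑T)^[n] (a + b) = 0
        rw [iterate_map_add T, ha, hb, add_zero]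
      smul_mem' := fun c v (hv : (⇑T)^[n] v = 0) => by
        show (⇑T)^[n] (c • v) = 0
        have : ∀ m, (⇑T)^[m] (c • v) = (⇑σ)^[m] c • (⇑T)^[m] v := by
          intro m
          induction m with
          | zero => rfl
          | succ m ihm => simp only [Function.iterate_succ_apply', ihm, LinearMap.map_smulₛₗ]
        rw [this, hv, smul_zero] }
  have hKmono : Monotone K := monotone_nat_of_le_succ fun n v (hv : (⇑T)^[n] v = 0) => by
    show (⇑T)^[n + 1] v = 0
    rw [Function.iterate_succ_apply', hv, map_zero]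
  have hKs : (⨆ n : ℕ, Submodule.span k {v : V | (⇑T)^[n] v = 0}) = ⨆ n, K n :=
    iSup_congr fun n => (K n).span_eq
  have hmem : ∀ v, v ∈ (⨆ n, K n) ↔ ∃ n, (⇑T)^[n] v = 0 := fun v =>
    Submodule.mem_iSup_of_directed _ hKmono.directed_le
  refine ⟨?_, fun v => by rw [hKs]; exact hmem v,
    fun v hv => map_mem_ssPart T hv,
    fun a ha b hb hab => congrArg Subtype.val (hinj (a₁ := ⟨a, ha⟩) (a₂ := ⟨b, hb⟩) (Subtype.ext hab)),
    fun v hv => let ⟨w, hw, h⟩ := hsurj v hv; ⟨w, hw, h⟩⟩
  rw [hKs]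
  constructor
  · rw [Submodule.disjoint_def]
    intro v hv hv'
    obtain ⟨n, hn⟩ := (hmem v).mp hv
    exact hz n v hv' hn
  · rw [codisjoint_iff, eq_top_iff]
    intro v _
    have hmemss : ∀ n, ∀ y ∈ ssPart T, ∃ w ∈ ssPart T, (⇑T)^[n] w = y := by
      intro n
      induction n with
      | zero => exact fun y hy => ⟨y, hy, rfl⟩
      | succ n ih =>
        intro y hy
        obtain ⟨z, hz', rfl⟩ := hsurj y hy
        obtain ⟨w, hw, rfl⟩ := ih z hz'
        exact ⟨w, hw, by rw [Function.iterate_succ_apply']⟩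
    obtain ⟨w, hw, hwe⟩ := hmemss N ((⇑T)^[N] v) (by rw [e]; exact Submodule.subset_span ⟨v, rfl⟩)
    refine Submodule.mem_sup.mpr ⟨v - w, (hmem _).mpr ⟨N, ?_⟩, w, hw, sub_add_cancel v w⟩
    rw [iterate_map_sub T, hwe, sub_self]

include hσ in
theorem sub_surjective_and_basis
    (h2 : ∀ (n : ℕ) (b : Fin (n + 1) → k), b ≠ 0 →
      ∃ x : k, x ≠ 0 ∧ x = ∑ i : Fin (n + 1), (⇑σ)^[i.val + 1] x * (⇑σ)^[i.val] (b (Fin.rev i)))
    (h3 : ∀ c : k, ∃ y : k, σ y - y + c = 0) :
    Function.Surjective (fun v : V => v - T v) ∧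
    ∃ b : Module.Basis (Fin (Module.finrank k ↥(ssPart T))) k ↥(ssPart T), ∀ i, T (b i : V) = (b i : V) := by
  obtain ⟨b, hb⟩ := exists_fixed_basis (ssMap T) (span_range_ssMap T) h2 h3
  refine ⟨?_, b, fun i => congrArg Subtype.val (hb i)⟩
  intro v
  obtain ⟨hcompl, hmem, -⟩ := fitting hσ T
  obtain ⟨a, ha, s, hs, rfl⟩ := Submodule.mem_sup.mp
    (hcompl.sup_eq_top ▸ Submodule.mem_top : v ∈ _)
  obtain ⟨n, hn⟩ := (hmem a).mp ha
  obtain ⟨s', hs'⟩ := sub_surjective_of_fixed_basis (ssMap T) b hb h3 ⟨s, hs⟩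
  refine ⟨(∑ i ∈ Finset.range n, (⇑T)^[i] a) + (s' : V), ?_⟩
  have e1 : (∑ i ∈ Finset.range n, (⇑T)^[i] a) - T (∑ i ∈ Finset.range n, (⇑T)^[i] a) = a := by
    rw [map_sum, ← Finset.sum_sub_distrib]
    have hstep : ∀ i, T ((⇑T)^[i] a) = (⇑T)^[i + 1] a := fun i => (Function.iterate_succ_apply' T i a).symm
    simp only [hstep]
    rw [Finset.sum_range_sub', hn, Function.iterate_zero_apply, sub_zero]
  have e2 : (s' : V) - T s' = s := congrArg Subtype.val hs'
  simp only [map_add]
  rw [add_sub_add_comm, e1, e2]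

end Surj

end Groth.Agent.H26Misc
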