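import Mathlib.Algebra.MvPolynomial.CommRing
import Mathlib.Data.Finsupp.Weight
import Mathlib.Order.Preorder.Finsupp
import Mathlib.RingTheory.Ideal.Span
import Mathlib.Tactic

/-!
Gröbner bases with respect to a weight for which every leading form is a monic monomial,
over an arbitrary commutative ring: Buchberger's criterion, division, and regularity consequences.
-/

set_option autoImplicit false
open MvPolynomial

namespace Groth.Agent.H26Misc.WGB

variable {σ : Type*} {A : Type*} [CommRing A] {ι : Type*} [Fintype ι]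
  (ω : σ → ℕ) (lead : ι → σ →₀ ℕ) (b : ι → MvPolynomial σ A)

/-- `b j` is the monomial `lead j` plus terms of lower weight. -/
def Leading : Prop :=
  ∀ j, coeff (lead j) (b j) = 1 ∧ ∀ d ∈ (b j).support, d ≠ lead j → Finsupp.weight ω d < Finsupp.weight ω (lead j)

/-- representation by summands of weight below `n` -/
def RepBelow (n : ℕ) (f : MvPolynomial σ A) : Prop :=
  ∃ g : ι → MvPolynomial σ A, (∀ j, ∀ d ∈ (g j).support, Finsupp.weight ω d + Finsupp.weight ω (lead j) < n) ∧ f = ∑ j, g j * b j

/-- all S-polynomials have standard representations -/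
def Buchberger : Prop :=
  ∀ j k, RepBelow ω lead b (Finsupp.weight ω (lead j ⊔ lead k))
    (monomial (lead j ⊔ lead k - lead j) 1 * b j - monomial (lead j ⊔ lead k - lead k) 1 * b k)

/-- no monomial of `f` is divisible by a leading monomial -/
def Normal (f : MvPolynomial σ A) : Prop := ∀ d ∈ f.support, ∀ j, ¬ lead j ≤ d

variable {ω lead b}

theorem RepBelow.zero (n : ℕ) : RepBelow ω lead b n 0 := ⟨fun _ => 0, by simp, by simp⟩

theorem RepBelow.mono {m n : ℕ} (h : m ≤ n) {f : MvPolynomial σ A} (hf : RepBelow ω lead b m f) :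
    RepBelow ω lead b n f := by
  obtain ⟨g, hg, e⟩ := hf
  exact ⟨g, fun j d hd => lt_of_lt_of_le (hg j d hd) h, e⟩

theorem RepBelow.add {n : ℕ} {f f' : MvPolynomial σ A} (hf : RepBelow ω lead b n f)
    (hf' : RepBelow ω lead b n f') : RepBelow ω lead b n (f + f') := by
  classical
  obtain ⟨g, hg, rfl⟩ := hf
  obtain ⟨g', hg', rfl⟩ := hf'
  refine ⟨g + g', fun j d hd => ?_, by simp [add_mul, Finset.sum_add_distrib]⟩
  rcases Finset.mem_union.mp (support_add hd) with h | h
  · exact hg j d h
  · exact hg' j d h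

theorem RepBelow.sum {κ : Type*} {n : ℕ} (s : Finset κ) (f : κ → MvPolynomial σ A)
    (h : ∀ x ∈ s, RepBelow ω lead b n (f x)) : RepBelow ω lead b n (∑ x ∈ s, f x) :=
  Finset.sum_induction f _ (fun _ _ => RepBelow.add) (RepBelow.zero n) h

theorem RepBelow.monomial_mul {n : ℕ} {f : MvPolynomial σ A} (hf : RepBelow ω lead b n f)
    (a : σ →₀ ℕ) (c : A) : RepBelow ω lead b (Finsupp.weight ω a + n) (monomial a c * f) := by
  obtain ⟨g, hg, rfl⟩ := hf
  refine ⟨fun j => monomial a c * g j, fun j d hd => ?_, by simp [Finset.mul_sum, mul_assoc]⟩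
  have hd' : coeff d (monomial a c * g j) ≠ 0 := mem_support_iff.mp hd
  rw [coeff_monomial_mul'] at hd'
  split_ifs at hd' with hle
  · have := hg j (d - a) (mem_support_iff.mpr (right_ne_zero_of_mul hd'))
    have e : Finsupp.weight ω a + Finsupp.weight ω (d - a) = Finsupp.weight ω d := by
      rw [← map_add, add_tsub_cancel_of_le hle]
    omega
  · exact absurd rfl hd'

theorem RepBelow.weight_lt {n : ℕ} {f : MvPolynomial σ A} (hb : Leading ω lead b)
    (hf : RepBelow ω lead b n f) {d : σ →₀ ℕ} (hd : d ∈ f.support) : Finsupp.weight ω d < n := by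
  classical
  obtain ⟨g, hg, rfl⟩ := hf
  obtain ⟨j, -, hj⟩ := Finset.mem_biUnion.mp (support_sum hd)
  obtain ⟨x, hx, y, hy, rfl⟩ := Finset.mem_add.mp (support_mul _ _ hj)
  rw [map_add]
  have h1 := hg j x hx
  rcases eq_or_ne y (lead j) with rfl | h
  · exact h1
  · have := (hb j).2 y hy h
    omega

open Classical in
theorem coeff_monomial_mul_top (hb : Leading ω lead b) {n : ℕ} (j : ι) (e : σ →₀ ℕ) (c : A)
    (d : σ →₀ ℕ) (hd : Finsupp.weight ω d = n) (he : Finsupp.weight ω e + Finsupp.weight ω (lead j) = n) :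
    coeff d (monomial e c * b j) = if e + lead j = d then c else 0 := by
  rw [coeff_monomial_mul']
  by_cases h : e + lead j = d
  · subst h
    rw [if_pos (le_add_of_nonneg_right ((zero_le))), add_tsub_cancel_left, (hb j).1, mul_one, if_pos rfl]
  · rw [if_neg h]
    split_ifs with hle
    · by_cases hy : d - e ∈ (b j).support
      · have := (hb j).2 _ hy (fun hh => h (by rw [← hh, add_tsub_cancel_of_le hle]))
        have e' : Finsupp.weight ω e + Finsupp.weight ω (d - e) = Finsupp.weight ω d := by rw [← map_add, add_tsub_cancel_of_le hle]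
        omega
      · rw [notMem_support_iff.mp hy, mul_zero]
    · rfl

/-- Key step of Buchberger's criterion. -/
theorem step (hb : Leading ω lead b) (hS : Buchberger ω lead b) {n : ℕ} {f : MvPolynomial σ A}
    (hf : RepBelow ω lead b (n + 1) f) :
    (∃ d ∈ f.support, Finsupp.weight ω d = n ∧ ∃ j, lead j ≤ d) ∨ RepBelow ω lead b n f := by
  classical
  obtain ⟨g, hg, rfl⟩ := hf
  rw [or_iff_not_imp_left]
  intro hno
  push Not at hno
  let T : ι → Finset (σ →₀ ℕ) := fun j => (g j).support.filter (fun e => Finsupp.weight ω e + Finsupp.weight ω (lead j) = n)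
  let low : ι → MvPolynomial σ A := fun j =>
    ∑ e ∈ (g j).support.filter (fun e => ¬ (Finsupp.weight ω e + Finsupp.weight ω (lead j) = n)), monomial e (coeff e (g j))
  have hlow : RepBelow ω lead b n (∑ j, low j * b j) := by
    refine ⟨low, fun j d hd => ?_, rfl⟩
    obtain ⟨e, he, hde⟩ := Finset.mem_biUnion.mp (support_sum hd)
    have := support_monomial_subset hde
    rw [Finset.mem_singleton] at this
    subst this
    obtain ⟨he1, he2⟩ := Finset.mem_filter.mp he
    have := hg j d he1
    omega
  have hsplit : ∀ j, g j = low j + ∑ e ∈ T j, monomial e (coeff e (g j)) := by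
    intro j
    conv_lhs => rw [(g j).as_sum]
    simp only [low, T]
    rw [add_comm, Finset.sum_filter_add_sum_filter_not]
  let P : Finset (Σ _ : ι, σ →₀ ℕ) := Finset.univ.sigma T
  have htop : ∑ j, g j * b j =
      (∑ j, low j * b j) + ∑ p ∈ P, monomial p.2 (coeff p.2 (g p.1)) * b p.1 := by
    rw [Finset.sum_sigma, ← Finset.sum_add_distrib]
    refine Finset.sum_congr rfl fun j _ => ?_
    conv_lhs => rw [hsplit j]
    simp only [add_mul, Finset.sum_mul]
  have hP : ∀ p ∈ P, Finsupp.weight ω p.2 + Finsupp.weight ω (lead p.1) = n := fun p hp =>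
    (Finset.mem_filter.mp (Finset.mem_sigma.mp hp).2).2
  rw [htop]
  refine hlow.add ?_
  rw [← Finset.sum_fiberwise_of_maps_to (t := P.image (fun p => p.2 + lead p.1)) (g := fun p => p.2 + lead p.1)
    (fun p hp => Finset.mem_image_of_mem _ hp)]
  refine RepBelow.sum _ _ fun d hd => ?_
  set F := P.filter (fun p => p.2 + lead p.1 = d) with hF
  obtain ⟨p₀, hp₀, rfl⟩ := Finset.mem_image.mp hd
  set d := p₀.2 + lead p₀.1 with hd₀
  have hdn : Finsupp.weight ω d = n := by rw [hd₀, map_add]; exact hP p₀ hp₀
  have hsum : ∑ p ∈ F, coeff p.2 (g p.1) = 0 := by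
    have hc : coeff d (∑ j, g j * b j) = ∑ p ∈ F, coeff p.2 (g p.1) := by
      rw [htop, coeff_add, hF]
      have : coeff d (∑ j, low j * b j) = 0 := notMem_support_iff.mp fun h => by
        have := hlow.weight_lt hb h
        omega
      rw [this, zero_add, coeff_sum, Finset.sum_filter]
      exact Finset.sum_congr rfl fun p hp => coeff_monomial_mul_top hb _ _ _ _ hdn (hP p hp)
    rw [← hc]
    by_contra h
    exact hno d (mem_support_iff.mpr h) hdn p₀.1 (le_add_of_nonneg_left ((zero_le)))
  have hk : lead p₀.1 ≤ d := le_add_of_nonneg_left ((zero_le))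
  have e : ∑ p ∈ F, monomial p.2 (coeff p.2 (g p.1)) * b p.1 =
      ∑ p ∈ F, (monomial p.2 (coeff p.2 (g p.1)) * b p.1 -
        monomial (d - lead p₀.1) (coeff p.2 (g p.1)) * b p₀.1) := by
    rw [Finset.sum_sub_distrib, ← Finset.sum_mul _ _ (b p₀.1), ← map_sum, hsum]
    simp
  rw [e]
  refine RepBelow.sum _ _ fun p hp => ?_
  have hpe : p.2 + lead p.1 = d := (Finset.mem_filter.mp hp).2
  have hj : lead p.1 ≤ d := hpe ▸ le_add_of_nonneg_left ((zero_le))
  set l := lead p.1 ⊔ lead p₀.1
  have hl : l ≤ d := sup_le hj hk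
  have e1 : monomial p.2 (coeff p.2 (g p.1)) * b p.1 - monomial (d - lead p₀.1) (coeff p.2 (g p.1)) * b p₀.1 =
      monomial (d - l) (coeff p.2 (g p.1)) *
        (monomial (l - lead p.1) 1 * b p.1 - monomial (l - lead p₀.1) 1 * b p₀.1) := by
    rw [mul_sub, ← mul_assoc, ← mul_assoc, monomial_mul, monomial_mul, mul_one,
      tsub_add_tsub_cancel hl le_sup_left, tsub_add_tsub_cancel hl le_sup_right, ← hpe, add_tsub_cancel_right]
  rw [e1]
  have := (hS p.1 p₀.1).monomial_mul (d - l) (coeff p.2 (g p.1))
  refine this.mono ?_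
  rw [← map_add, tsub_add_cancel_of_le hl, hdn]

theorem mem_span_iff {f : MvPolynomial σ A} :
    f ∈ Ideal.span (Set.range b) ↔ ∃ g : ι → MvPolynomial σ A, ∑ j, g j * b j = f :=
  Ideal.mem_span_range_iff_exists_fun

/-- In every element of the ideal, some monomial of top weight is divisible by a leading monomial. -/
theorem exists_top_divisible (hb : Leading ω lead b) (hS : Buchberger ω lead b) {f : MvPolynomial σ A}
    (hf : f ∈ Ideal.span (Set.range b)) {d₀ : σ →₀ ℕ} (hd₀ : d₀ ∈ f.support)
    (hmax : ∀ d ∈ f.support, Finsupp.weight ω d ≤ Finsupp.weight ω d₀) :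
    ∃ d ∈ f.support, Finsupp.weight ω d = Finsupp.weight ω d₀ ∧ ∃ j, lead j ≤ d := by
  obtain ⟨g, rfl⟩ := mem_span_iff.mp hf
  by_contra hno
  let N := Finset.univ.sup fun j => (g j).support.sup fun d => Finsupp.weight ω d + Finsupp.weight ω (lead j)
  have start : RepBelow ω lead b (N + 1) (∑ j, g j * b j) := ⟨g, fun j d hd => Nat.lt_succ_of_le
    (le_trans (Finset.le_sup (f := fun d => Finsupp.weight ω d + Finsupp.weight ω (lead j)) hd)
      (Finset.le_sup (f := fun j => (g j).support.sup fun d => Finsupp.weight ω d + Finsupp.weight ω (lead j)) (Finset.mem_univ j))), rfl⟩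
  have key : ∀ k, k ≤ N + 1 - (Finsupp.weight ω d₀) → RepBelow ω lead b (N + 1 - k) (∑ j, g j * b j) := by
    intro k
    induction k with
    | zero => exact fun _ => start
    | succ k ih =>
      intro hk
      have h := ih (by omega)
      rw [show N + 1 - k = N + 1 - (k + 1) + 1 by omega] at h
      refine (step hb hS h).resolve_left ?_
      rintro ⟨d, hd, hdn, hdj⟩
      have := hmax d hd
      exact hno ⟨d, hd, by omega, hdj⟩
  have hw := start.weight_lt hb hd₀
  have h := key _ le_rfl
  have := h.weight_lt hb hd₀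
  omega

theorem eq_zero_of_normal (hb : Leading ω lead b) (hS : Buchberger ω lead b) {f : MvPolynomial σ A}
    (hf : f ∈ Ideal.span (Set.range b)) (hn : Normal lead f) : f = 0 := by
  by_contra h
  obtain ⟨d₀, hd₀, hmax⟩ := Finset.exists_max_image f.support (Finsupp.weight ω) (support_nonempty.mpr h)
  obtain ⟨d, hd, -, j, hj⟩ := exists_top_divisible hb hS hf hd₀ hmax
  exact hn d hd j hj

/-- Division: every polynomial is congruent to a normal one. -/
theorem exists_normal (hb : Leading ω lead b) (f : MvPolynomial σ A) :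
    ∃ f', Normal lead f' ∧ f - f' ∈ Ideal.span (Set.range b) := by
  classical
  suffices key : ∀ (n : ℕ) (f : MvPolynomial σ A), (∀ d ∈ f.support, (∃ j, lead j ≤ d) → Finsupp.weight ω d < n) →
      ∃ f', Normal lead f' ∧ f - f' ∈ Ideal.span (Set.range b) from
    key (f.support.sup (Finsupp.weight ω) + 1) f fun d hd _ => Nat.lt_succ_of_le (Finset.le_sup hd)
  intro n
  induction n with
  | zero => exact fun f hf => ⟨f, fun d hd j hj => absurd (hf d hd ⟨j, hj⟩) (Nat.not_lt_zero _), by simp⟩
  | succ n ih =>
    intro f hf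
    let S := f.support.filter (fun d => Finsupp.weight ω d = n ∧ ∃ j, lead j ≤ d)
    have hS : ∀ d : S, ∃ j, lead j ≤ d.1 := fun d => (Finset.mem_filter.mp d.2).2.2
    choose j hj using hS
    let r := ∑ d : S, monomial (d.1 - lead (j d)) (coeff d.1 f) * b (j d)
    have hr : r ∈ Ideal.span (Set.range b) :=
      Ideal.sum_mem _ fun d _ => Ideal.mul_mem_left _ _ (Ideal.subset_span ⟨_, rfl⟩)
    have hrd : ∀ d : σ →₀ ℕ, n ≤ Finsupp.weight ω d → coeff d r = if d ∈ S then coeff d f else 0 := by
      intro d hd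
      rw [coeff_sum]
      rcases hd.eq_or_lt with h | h
      · have : ∀ x : S, coeff d (monomial (x.1 - lead (j x)) (coeff x.1 f) * b (j x)) =
            if x.1 = d then coeff x.1 f else 0 := by
          intro x
          have hx := (Finset.mem_filter.mp x.2).2.1
          rw [coeff_monomial_mul_top hb _ _ _ d h.symm
            (by rw [← map_add, tsub_add_cancel_of_le (hj x), hx]), tsub_add_cancel_of_le (hj x)]
        rw [Finset.sum_congr rfl (fun x _ => this x),
          Finset.sum_coe_sort S (fun y => if y = d then coeff y f else 0), Finset.sum_ite_eq']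
      · rw [if_neg (fun hm => by have := (Finset.mem_filter.mp hm).2.1; omega)]
        refine Finset.sum_eq_zero fun x _ => ?_
        by_contra hne
        obtain ⟨y, hy, z, hz, rfl⟩ := Finset.mem_add.mp (support_mul _ _ (mem_support_iff.mpr hne))
        rw [Finset.mem_singleton.mp (support_monomial_subset hy)] at h
        have hx := (Finset.mem_filter.mp x.2).2.1
        have e : Finsupp.weight ω (x.1 - lead (j x)) + Finsupp.weight ω (lead (j x)) = n := by
          rw [← map_add, tsub_add_cancel_of_le (hj x), hx]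
        rw [map_add] at h
        rcases eq_or_ne z (lead (j x)) with rfl | hne'
        · omega
        · have := (hb (j x)).2 z hz hne'
          omega
    obtain ⟨f', hn', hf'⟩ := ih (f - r) fun d hd hdj => by
      by_contra hlt
      push Not at hlt
      have hc := mem_support_iff.mp hd
      rw [coeff_sub, hrd d hlt] at hc
      split_ifs at hc with hmem
      · exact hc (sub_self _)
      · rw [sub_zero] at hc
        have := hf d (mem_support_iff.mpr hc) hdj
        exact hmem (Finset.mem_filter.mpr ⟨mem_support_iff.mpr hc, by omega, hdj⟩)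
    exact ⟨f', hn', by rw [show f - f' = f - r - f' + r by ring]; exact Ideal.add_mem _ hf' hr⟩

/-- A variable occurring in no leading monomial is regular modulo the ideal. -/
theorem mem_of_X_mul_mem (hb : Leading ω lead b) (hS : Buchberger ω lead b) (v : σ)
    (hv : ∀ j, lead j v = 0) {f : MvPolynomial σ A} (hf : X v * f ∈ Ideal.span (Set.range b)) :
    f ∈ Ideal.span (Set.range b) := by
  obtain ⟨f', hn, hd⟩ := exists_normal hb f
  have hX : X v * f' ∈ Ideal.span (Set.range b) := by
    have := Ideal.sub_mem _ hf (Ideal.mul_mem_left _ (X v) hd)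
    simpa [mul_sub] using this
  have hn' : Normal lead (X v * f') := by
    intro d hd j hj
    rw [support_X_mul, Finset.mem_map] at hd
    obtain ⟨e, he, rfl⟩ := hd
    refine hn e he j fun x => ?_
    have := hj x
    simp only [addLeftEmbedding_apply, Finsupp.add_apply] at this
    rcases eq_or_ne v x with rfl | hvx
    · rw [hv j]; exact (zero_le)
    · simpa [Finsupp.single_eq_of_ne (Ne.symm hvx)] using this
  have h0 := eq_zero_of_normal hb hS hX hn'
  have : f' = 0 := by
    ext d
    have := congrArg (coeff (Finsupp.single v 1 + d)) h0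
    simpa [coeff_X_mul] using this
  simpa [this] using hd

/-- A polynomial with a monic leading monomial coprime to all leading monomials is regular modulo the ideal. -/
theorem mem_of_mul_mem_of_coprime (hb : Leading ω lead b) (hS : Buchberger ω lead b)
    (q : MvPolynomial σ A) (l : σ →₀ ℕ) (hl1 : coeff l q = 1)
    (hl2 : ∀ d ∈ q.support, d ≠ l → Finsupp.weight ω d < Finsupp.weight ω l) (hcop : ∀ j x, lead j x = 0 ∨ l x = 0)
    {f : MvPolynomial σ A} (hf : q * f ∈ Ideal.span (Set.range b)) :
    f ∈ Ideal.span (Set.range b) := by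
  classical
  obtain ⟨f', hn, hd⟩ := exists_normal hb f
  have hX : q * f' ∈ Ideal.span (Set.range b) := by
    have := Ideal.sub_mem _ hf (Ideal.mul_mem_left _ q hd)
    simpa [mul_sub] using this
  suffices f' = 0 by simpa [this] using hd
  by_contra h
  obtain ⟨e₀, he₀, hmax⟩ := Finset.exists_max_image f'.support (Finsupp.weight ω) (support_nonempty.mpr h)
  have hub : ∀ d ∈ (q * f').support, Finsupp.weight ω d ≤ Finsupp.weight ω (l + e₀) ∧
      (Finsupp.weight ω d = Finsupp.weight ω (l + e₀) → ∃ e ∈ f'.support, d = l + e) := by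
    intro d hd
    obtain ⟨y, hy, z, hz, rfl⟩ := Finset.mem_add.mp (support_mul _ _ hd)
    have h1 := hmax z hz
    rw [map_add, map_add]
    rcases eq_or_ne y l with rfl | hne
    · exact ⟨by omega, fun _ => ⟨z, hz, rfl⟩⟩
    · have := hl2 y hy hne
      exact ⟨by omega, fun h => by omega⟩
  have hmem : l + e₀ ∈ (q * f').support := by
    rw [mem_support_iff, coeff_mul, Finset.sum_eq_single (l, e₀)]
    · simpa [hl1] using mem_support_iff.mp he₀
    · rintro ⟨y, z⟩ hyz hne
      rw [Finset.mem_antidiagonal] at hyz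
      by_contra hc
      obtain ⟨hc1, hc2⟩ := ne_zero_and_ne_zero_of_mul hc
      have h1 := hmax z (mem_support_iff.mpr hc2)
      have e : Finsupp.weight ω y + Finsupp.weight ω z = Finsupp.weight ω l + Finsupp.weight ω e₀ := by rw [← map_add, ← map_add, hyz]
      have hyl : y = l := by
        by_contra hyl
        have := hl2 y (mem_support_iff.mpr hc1) hyl
        omega
      exact hne (Prod.ext hyl (add_left_cancel (hyl ▸ hyz : l + z = l + e₀)))
    · simp
  obtain ⟨d, hdmem, hdw, j, hj⟩ := exists_top_divisible hb hS hX hmem fun d hd => (hub d hd).1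
  obtain ⟨e, he, rfl⟩ := (hub d hdmem).2 hdw
  refine hn e he j fun x => ?_
  have := hj x
  rw [Finsupp.add_apply] at this
  rcases hcop j x with h | h
  · rw [h]; exact (zero_le)
  · simpa [h] using this

section Data

variable {n : ℕ}

/-- a polynomial given by a list of terms -/
noncomputable def toP (L : List (ℤ × (Fin n → ℕ))) : MvPolynomial (Fin n) A :=
  (L.map fun t => (t.1 : MvPolynomial (Fin n) A) * ∏ i, X i ^ t.2 i).sum

/-- exponent vector as a finsupp -/
noncomputable abbrev ex (e : Fin n → ℕ) : Fin n →₀ ℕ := Finsupp.equivFunOnFinite.symm e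

/-- weight of exponent vector -/
def wv (ω : Fin n → ℕ) (e : Fin n → ℕ) : ℕ := ∑ i, e i * ω i

theorem prod_eq_monomial (e : Fin n → ℕ) :
    (∏ i, X i ^ e i : MvPolynomial (Fin n) A) = monomial (ex e) 1 := by
  rw [monomial_eq, map_one, one_mul, Finsupp.prod_fintype _ _ (fun i => pow_zero _)]
  rfl

theorem wt_ex (ω : Fin n → ℕ) (e : Fin n → ℕ) : Finsupp.weight ω (ex e) = wv ω e := by
  rw [Finsupp.weight_apply, Finsupp.sum_fintype _ _ (fun i => by simp)]
  rfl

theorem mem_of_mem_support_toP (L : List (ℤ × (Fin n → ℕ))) {d : Fin n →₀ ℕ}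
    (hd : d ∈ (toP L : MvPolynomial (Fin n) A).support) : ∃ t ∈ L, d = ex t.2 := by
  induction L with
  | nil => simp [toP] at hd
  | cons t L ih =>
    classical
    simp only [toP, List.map_cons, List.sum_cons] at hd
    rcases Finset.mem_union.mp (support_add hd) with h | h
    · refine ⟨t, List.mem_cons_self, ?_⟩
      rw [prod_eq_monomial, ← map_intCast (C : A →+* MvPolynomial (Fin n) A), C_mul_monomial] at h
      exact Finset.mem_singleton.mp (support_monomial_subset h)
    · obtain ⟨t', ht', e⟩ := ih h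
      exact ⟨t', List.mem_cons_of_mem _ ht', e⟩

theorem leading_toP {κ : Type*} (ω : Fin n → ℕ) (l : κ → Fin n → ℕ) (tail : κ → List (ℤ × (Fin n → ℕ)))
    (h : ∀ j, ∀ t ∈ tail j, wv ω t.2 < wv ω (l j)) :
    Leading ω (fun j => ex (l j)) (fun j => (toP ((1, l j) :: tail j) : MvPolynomial (Fin n) A)) := by
  classical
  intro j
  have e : (toP ((1, l j) :: tail j) : MvPolynomial (Fin n) A) = monomial (ex (l j)) 1 + toP (tail j) := by
    simp only [toP, List.map_cons, List.sum_cons, Int.cast_one, one_mul, prod_eq_monomial]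
  have hlt : ∀ d ∈ (toP (tail j) : MvPolynomial (Fin n) A).support, Finsupp.weight ω d < Finsupp.weight ω (ex (l j)) := by
    intro d hd
    obtain ⟨t, ht, rfl⟩ := mem_of_mem_support_toP _ hd
    rw [wt_ex, wt_ex]
    exact h j t ht
  refine ⟨?_, fun d hd hne => ?_⟩
  · simp only [e, coeff_add, coeff_monomial, if_true]
    rw [notMem_support_iff.mp (fun hm => lt_irrefl _ (hlt _ hm)), add_zero]
  · simp only [e] at hd
    rcases Finset.mem_union.mp (support_add hd) with h' | h'
    · exact absurd (Finset.mem_singleton.mp (support_monomial_subset h')) hne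
    · exact hlt d h'

theorem repBelow_toP (ω : Fin n → ℕ) (l : ι → Fin n → ℕ) (b : ι → MvPolynomial (Fin n) A)
    (q : ι → List (ℤ × (Fin n → ℕ))) (m : ℕ) (h : ∀ j, ∀ t ∈ q j, wv ω t.2 + wv ω (l j) < m)
    {f : MvPolynomial (Fin n) A} (e : f = ∑ j, toP (q j) * b j) :
    RepBelow ω (fun j => ex (l j)) b m f := by
  refine ⟨fun j => toP (q j), fun j d hd => ?_, e⟩
  obtain ⟨t, ht, rfl⟩ := mem_of_mem_support_toP _ hd
  rw [wt_ex, wt_ex]
  exact h j t ht

theorem ex_sup (e e' : Fin n → ℕ) : ex e ⊔ ex e' = ex (fun i => max (e i) (e' i)) := by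
  ext i; simp

theorem ex_sub (e e' : Fin n → ℕ) : ex e - ex e' = ex (fun i => e i - e' i) := by
  ext i; simp

/-- Criterion from finitely checkable data. -/
theorem buchberger_toP [LinearOrder ι] (ω : Fin n → ℕ) (l : ι → Fin n → ℕ) (b : ι → MvPolynomial (Fin n) A)
    (q : ι → ι → ι → List (ℤ × (Fin n → ℕ)))
    (hw : ∀ j k, j < k → ∀ i, ∀ t ∈ q j k i, wv ω t.2 + wv ω (l i) < wv ω (fun x => max (l j x) (l k x)))
    (he : ∀ j k, j < k → toP [(1, fun x => max (l j x) (l k x) - l j x)] * b j -
        toP [(1, fun x => max (l j x) (l k x) - l k x)] * b k = ∑ i, toP (q j k i) * b i) :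
    Buchberger ω (fun j => ex (l j)) b := by
  have one : ∀ j k, j < k → RepBelow ω (fun j => ex (l j)) b (Finsupp.weight ω (ex (l j) ⊔ ex (l k)))
      (monomial (ex (l j) ⊔ ex (l k) - ex (l j)) 1 * b j - monomial (ex (l j) ⊔ ex (l k) - ex (l k)) 1 * b k) := by
    intro j k hjk
    rw [ex_sup, ex_sub, ex_sub, wt_ex]
    refine repBelow_toP ω l b (q j k) _ (hw j k hjk) ?_
    rw [← he j k hjk]
    simp [toP, prod_eq_monomial]
  intro j k
  rcases lt_trichotomy j k with h | h | h
  · exact one j k h
  · subst h; simpa using RepBelow.zero _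
  · have := (one k j h).monomial_mul 0 (-1)
    rw [map_zero, zero_add, sup_comm] at this
    convert this using 1
    simp only [monomial_zero', map_neg, C_1]
    ring

end Data

end Groth.Agent.H26Misc.WGB
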